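import Groth.Agent.AlgGrpQ.Ratl.Main
import Mathlib.AlgebraicGeometry.AffineSpace

/-!
# Rationality, in scheme language
-/

set_option autoImplicit false
set_option backward.isDefEq.respectTransparency false
set_option linter.style.haveILetI false
set_option maxSynthPendingDepth 5

universe u

open CategoryTheory AlgebraicGeometry MonoidalCategory CategoryTheory.Limits
open WithConv

namespace Groth.Agent.AlgGrpQ.Ratl

open GrpSchLib.AffineHopf AGFRoot

variable {k : Type u} [Field k] [IsAlgClosed k]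

theorem exists_rational (G : Over (Spec (CommRingCat.of k))) [GrpObj G] [IsAffine G.left] [Smooth G.hom]
    [ConnectedSpace ↥G.left] :
    ∃ (U : G.left.Opens) (n : ℕ) (V : (𝔸(ULift.{u} (Fin n); Spec (CommRingCat.of k))).Opens)
      (e : (U : Scheme.{u}) ≅ (V : Scheme.{u})), (U : Set ↥G.left).Nonempty ∧
        e.hom ≫ V.ι ≫ (𝔸(ULift.{u} (Fin n); Spec (CommRingCat.of k)) ↘ Spec (CommRingCat.of k)) = U.ι ≫ G.hom := by
  haveI : LocallyOfFiniteType G.hom := inferInstance
  obtain ⟨A, _, _, _, eG, _⟩ := SolvSch.exists_coords G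
  obtain ⟨-, hdom⟩ := SolvSch.isDomain_coords eG
  haveI := hdom
  haveI : IsIso eG.hom.left := inferInstanceAs (IsIso ((Over.forget _).map eG.hom))
  haveI : Smooth (sp k A).hom := by rw [← Over.w eG.hom]; infer_instance
  haveI : Algebra.Smooth k A :=
    RingHom.smooth_algebraMap.mp ((HasRingHomProperty.Spec_iff (P := @Smooth)).mp ‹Smooth (sp k A).hom›)
  obtain ⟨σ, hσ, T, _, _, _, j, i, hj, hi⟩ := chart_of_smooth (k := k) A
  let n := Nat.card σ
  let eσ : ULift.{u} (Fin n) ≃ σ := Equiv.ulift.trans (Finite.equivFin σ).symm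
  let i' : MvPolynomial (ULift.{u} (Fin n)) k →ₐ[k] T := i.comp (MvPolynomial.renameEquiv k eσ).toAlgHom
  have hi' : Std i' := hi.comp (std_of_bijective (MvPolynomial.renameEquiv k eσ).bijective)
  have hop : ∀ {R S : Type u} [CommRing R] [CommRing S] [Algebra k R] [Algebra k S] (f : R →ₐ[k] S), Std f →
      IsOpenImmersion (Spec.map (CommRingCat.ofHom f.toRingHom)) := fun f hf => by
    obtain ⟨r, hr⟩ := hf.exists_away
    letI := f.toRingHom.toAlgebra
    haveI := hr
    exact IsOpenImmersion.of_isLocalization r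
  haveI := hop j hj
  haveI := hop i' hi'
  haveI : Nonempty (Spec (CommRingCat.of T)) := inferInstanceAs (Nonempty (PrimeSpectrum T))
  let u : Spec (CommRingCat.of T) ⟶ G.left := Spec.map (CommRingCat.ofHom j.toRingHom) ≫ eG.hom.left
  let w : Spec (CommRingCat.of T) ⟶ 𝔸(ULift.{u} (Fin n); Spec (CommRingCat.of k)) :=
    Spec.map (CommRingCat.ofHom i'.toRingHom) ≫ (AffineSpace.SpecIso (ULift.{u} (Fin n)) (CommRingCat.of k)).inv
  haveI : IsOpenImmersion u := inferInstanceAs (IsOpenImmersion (_ ≫ _))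
  haveI : IsOpenImmersion w := inferInstanceAs (IsOpenImmersion (_ ≫ _))
  refine ⟨u.opensRange, n, w.opensRange, u.isoOpensRange.symm ≪≫ w.isoOpensRange, ?_, ?_⟩
  · exact ⟨u (Classical.arbitrary _), ⟨_, rfl⟩⟩
  · rw [Iso.trans_hom, Iso.symm_hom, Category.assoc, Iso.inv_comp_eq, Scheme.Hom.isoOpensRange_hom_ι_assoc,
      Scheme.Hom.isoOpensRange_hom_ι_assoc]
    show (Spec.map _ ≫ _) ≫ _ = (Spec.map _ ≫ _) ≫ _
    rw [Category.assoc, Category.assoc, AffineSpace.SpecIso_inv_over, Over.w eG.hom]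
    show _ = Spec.map _ ≫ Spec.map (CommRingCat.ofHom (algebraMap k A))
    rw [← Spec.map_comp, ← Spec.map_comp]
    congr 1
    exact CommRingCat.hom_ext (RingHom.ext fun x => (i'.commutes x).trans (j.commutes x).symm)

end Groth.Agent.AlgGrpQ.Ratl
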