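import Groth.Agent.AGFRoot.BorelExist
import Groth.Agent.AGFRoot.SolvScheme
import Groth.Agent.AlgGrpQ.OneDim
import Groth.Agent.GrpSchLib.HomogeneousQuot

/-!
# A trigonalizable subgroup without invariant functions
-/

set_option autoImplicit false
set_option backward.isDefEq.respectTransparency false
set_option linter.style.haveILetI false

universe u

open CategoryTheory CategoryTheory.Limits MonoidalCategory CartesianMonoidalCategory MonObj GrpObj AlgebraicGeometry
open WithConv TensorProduct

namespace Groth.Agent.AlgGrpQ.Ratl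

open GrpSchLib.AffineHopf AGFRoot

variable {k : Type u} [Field k] [IsAlgClosed k]

/-- Pairs of points separate a tensor product. -/
theorem tmul_ext' {A C : Type u} [CommRing A] [HopfAlgebra k A] [Algebra.FiniteType k A] [IsDomain A]
    [CommRing C] [HopfAlgebra k C] [Algebra.FiniteType k C] [IsDomain C] {z z' : A ⊗[k] C}
    (h : ∀ (g : WithConv (A →ₐ[k] k)) (g' : WithConv (C →ₐ[k] k)),
      Algebra.TensorProduct.lift g.ofConv g'.ofConv (fun _ _ => Commute.all _ _) z =
      Algebra.TensorProduct.lift g.ofConv g'.ofConv (fun _ _ => Commute.all _ _) z') : z = z' := by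
  classical
  rw [← sub_eq_zero]
  set w := z - z' with hw
  have h0 : ∀ (g : WithConv (A →ₐ[k] k)) (g' : WithConv (C →ₐ[k] k)),
      Algebra.TensorProduct.lift g.ofConv g'.ofConv (fun _ _ => Commute.all _ _) w = 0 := fun g g' => by
    rw [hw, map_sub, h g g', sub_self]
  clear_value w
  clear hw h
  let b := Module.Free.chooseBasis k C
  let e := TensorProduct.equivFinsuppOfBasisRight (M := A) b
  apply e.injective
  ext i
  rw [map_zero, Finsupp.zero_apply]
  refine AlgGrpQ.eq_zero_of_points (k := k) fun g => ?_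
  have h1 : TensorProduct.lid k C (g.ofConv.toLinearMap.rTensor C w) = 0 :=
    AlgGrpQ.eq_zero_of_points (k := k) fun g' => by
    refine Eq.trans ?_ (h0 g g')
    clear h0
    induction w using TensorProduct.induction_on with
    | zero => simp
    | tmul p q => simp
    | add p q hp hq => simp only [map_add, hp, hq]
  have h2 : b.repr (TensorProduct.lid k C (g.ofConv.toLinearMap.rTensor C w)) i = g.ofConv (e w i) := by
    clear h0 h1
    induction w using TensorProduct.induction_on with
    | zero => simp
    | tmul p q => simp [e, mul_comm]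
    | add p q hp hq => simp only [map_add, Finsupp.add_apply, hp, hq]
  rw [← h2, h1, map_zero, Finsupp.zero_apply]

/-- A connected group has a connected solvable subgroup whose invariant functions are constant. -/
theorem exists_solvable_const (A : Type u) [CommRing A] [HopfAlgebra k A] [Algebra.FiniteType k A]
    [Algebra.Smooth k A] [IsDomain A] :
    ∃ (C : Type u) (_ : CommRing C) (_ : HopfAlgebra k C) (_ : Algebra.FiniteType k C) (_ : IsDomain C)
      (π : A →ₐc[k] C), Group.IsSolvable (WithConv (C →ₐ[k] k)) ∧ HopfRep.IsTrigonalizable k C ∧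
      ∀ f : A, (∀ (g : WithConv (A →ₐ[k] k)) (h : WithConv (C →ₐ[k] k)),
        (g * toConv (h.ofConv.comp (π : A →ₐ[k] C))).ofConv f = g.ofConv f) → ∃ c : k, f = algebraMap k A c := by
  classical
  haveI hsm : Smooth (sp k A).hom := (HasRingHomProperty.Spec_iff (P := @Smooth)).mpr
    (RingHom.smooth_algebraMap.mpr ‹Algebra.Smooth k A›)
  haveI : IsAffine (sp k A).left := isAffine_Spec _
  haveI : IrreducibleSpace (sp k A).left := inferInstanceAs (IrreducibleSpace (PrimeSpectrum A))
  haveI : ConnectedSpace (sp k A).left := inferInstance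
  haveI : LocallyOfFiniteType (sp k A).hom := inferInstance
  obtain ⟨B, _, i, _, _, _, _, hs, hp⟩ := exists_solvable_proper (G := sp k A)
  haveI : IsAffine B.left := isAffine_of_isAffineHom i.left
  haveI : LocallyOfFiniteType B.hom := inferInstance
  obtain ⟨C, _, _, _, eB, _⟩ := SolvSch.exists_coords B
  obtain ⟨hconn, hdom⟩ := SolvSch.isDomain_coords eB
  haveI := hdom
  have hT := SolvSch.isTrigonalizable_coords eB hs
  haveI := isSolvable_points hs
  haveI : Group.IsSolvable (WithConv (C →ₐ[k] k)) :=
    Group.isSolvable_of_isSolvable_injective (f := SolvSch.pts eB) (SolvSch.pts_bijective eB).1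
  obtain ⟨π, hπ⟩ := exists_bialgHom (eB.hom ≫ i)
  refine ⟨C, inferInstance, inferInstance, inferInstance, hdom, π, inferInstance, hT, fun f hf => ?_⟩
  have hR : ∀ (R : Type u) [CommRing R] [Algebra k R] (g : A →ₐ[k] R) (h : C →ₐ[k] R),
      (toConv g * toConv (h.comp (π : A →ₐ[k] C))).ofConv f = g f := by
    intro R _ _ g h
    have key : (Algebra.TensorProduct.map (AlgHom.id k A) (π : A →ₐ[k] C)) (Coalgebra.comul (R := k) f) =
        f ⊗ₜ[k] (1 : C) := tmul_ext' fun g h => by
      rw [Algebra.TensorProduct.lift_tmul, map_one, _root_.mul_one, ← hf g h]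
      show _ = (g * toConv (h.ofConv.comp (π : A →ₐ[k] C))) f
      rw [AlgHom.convMul_apply]
      induction Coalgebra.comul (R := k) f using TensorProduct.induction_on with
      | zero => simp
      | tmul p q => simp
      | add p q hp hq => simp only [map_add, hp, hq]
    show (toConv g * toConv (h.comp (π : A →ₐ[k] C))) f = g f
    rw [AlgHom.convMul_apply]
    have := congrArg (Algebra.TensorProduct.lift g h (fun _ _ => Commute.all _ _)) key
    rw [Algebra.TensorProduct.lift_tmul, map_one, _root_.mul_one] at this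
    rw [← this]
    induction Coalgebra.comul (R := k) f using TensorProduct.induction_on with
    | zero => simp
    | tmul p q => simp
    | add p q hp hq => simp only [map_add, hp, hq]
  -- the quotient
  haveI : Mono i.left := inferInstance
  haveI : Mono i := Over.mono_of_mono_left i
  obtain ⟨Q, a, o, hQ1, hQq, hQ2, hQ3, sq⟩ := GrpSchLib.HomogeneousQuot.exists_quot (sp k A) B i
  haveI := hp Q a o ⟨hQ1, hQ2, hQ3, sq⟩
  haveI := hQ2
  haveI := hQ3
  let q := a.orbitMap o
  haveI : IsLocallyNoetherian Q.left := LocallyOfFiniteType.isLocallyNoetherian Q.hom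
  haveI : LocallyOfFiniteType (q.left ≫ Q.hom) := by rw [Over.w q]; infer_instance
  haveI : LocallyOfFiniteType q.left := locallyOfFiniteType_of_comp q.left Q.hom
  haveI : LocallyOfFinitePresentation q.left := inferInstance
  haveI : IsReduced (sp k A).left := GrpSchLib.isReduced_of_smooth_field (sp k A).hom
  haveI : IsReduced Q.left := FBaseLib.isReduced_of_flat_surjective q.left
  haveI : IrreducibleSpace Q.left := irreducibleSpace_of_surjective q.left.continuous q.left.surjective
  haveI : IsIntegral Q.left := isIntegral_of_irreducibleSpace_of_isReduced Q.left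
  let ψf : sp k A ⟶ sp k (Polynomial k) := spMap (Polynomial.aeval f)
  have heq : fst (sp k A) B ≫ ψf = ((sp k A ◁ i) ≫ μ[sp k A]) ≫ ψf := by
    refine ext_sp fun R _ _ j => ?_
    have hj : j ≫ (sp k A ◁ i) ≫ μ[sp k A] = (j ≫ fst (sp k A) B) * (j ≫ snd (sp k A) B ≫ i) := by
      have : j ≫ (sp k A ◁ i) = lift (j ≫ fst (sp k A) B) (j ≫ snd (sp k A) B ≫ i) := by
        apply CartesianMonoidalCategory.hom_ext <;> simp
      rw [Hom.mul_def, ← this, Category.assoc]
    obtain ⟨g₀, hg₀⟩ := exists_eq_spMap (j ≫ fst (sp k A) B)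
    obtain ⟨h₀, hh₀⟩ := exists_eq_spMap (j ≫ snd (sp k A) B ≫ eB.inv)
    have hi : j ≫ snd (sp k A) B ≫ i = spMap (h₀.comp (π : A →ₐ[k] C)) := by
      rw [← spMap_comp, ← hh₀, ← hπ]
      simp
    have hr : j ≫ (sp k A ◁ i) ≫ μ[sp k A] = spMap (toConv g₀ * toConv (h₀.comp (π : A →ₐ[k] C))).ofConv := by
      rw [hj, hg₀, hi, spMap_mul]
    show j ≫ fst (sp k A) B ≫ spMap (Polynomial.aeval f) = j ≫ ((sp k A ◁ i) ≫ μ[sp k A]) ≫ spMap (Polynomial.aeval f)
    rw [← Category.assoc j, hg₀, ← Category.assoc j, hr, spMap_comp, spMap_comp]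
    congr 1
    refine Polynomial.algHom_ext ?_
    simp only [AlgHom.comp_apply, Polynomial.aeval_X]
    exact (hR R g₀ h₀).symm
  obtain ⟨e, he⟩ := GrpSchLib.OrbitImmersion.exists_desc sq ψf heq
  haveI : IsAffine (sp k (Polynomial k)).left := isAffine_Spec _
  have hconst := GrpSchLib.AntiAffine.eq_const_of_isAffine (bijective_appTop_of_integral Q) e (η[sp k A] ≫ q)
  obtain ⟨c, hc⟩ := exists_eq_spMap' (unitSp.inv ≫ η[sp k A] ≫ q ≫ e)
  refine ⟨c Polynomial.X, ?_⟩
  have hψ' : ψf = toUnit (sp k A) ≫ η[sp k A] ≫ q ≫ e := by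
    rw [← he]
    conv_lhs => rw [hconst]
    rw [← Category.assoc, comp_toUnit, Category.assoc]
  have h1 : spMap (Polynomial.aeval f) = spMap ((Algebra.ofId k A).comp c) := by
    show ψf = _
    rw [hψ', ← spMap_comp, ← hc, unique_to_base (spMap (Algebra.ofId k A)) (toUnit _ ≫ unitSp.hom), Category.assoc,
      Iso.hom_inv_id_assoc]
  simpa using DFunLike.congr_fun (spMap_injective' h1) Polynomial.X

end Groth.Agent.AlgGrpQ.Ratl
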