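import Groth.Agent.AlgGrpQ.Ratl.Trig
import Groth.Agent.AGFRoot.Cochar
import Groth.Agent.AGFRoot.BorelExist
import Groth.Agent.AGFRoot.SolvScheme

/-!
# A connected group with central one-parameter subgroups is solvable
-/

set_option autoImplicit false
set_option linter.style.haveILetI false

universe u

open TensorProduct WithConv
open scoped Groth.Agent.DynLib41 LaurentPolynomial

namespace Groth.Agent.AlgGrpQ.Ratl

open Groth.Agent.AGFRoot

variable {k : Type u} [Field k] [IsAlgClosed k] {A : Type u} [CommRing A] [HopfAlgebra k A] [Algebra.FiniteType k A]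
  [IsDomain A]

local notation "Pt" => WithConv (A →ₐ[k] k)

omit [IsAlgClosed k] [Algebra.FiniteType k A] [IsDomain A] in
theorem comul_det {n : ℕ} {M : Fin n → Fin n → A} (hM : ComodLib.IsComodMatrix k M) :
    IsGroupLikeElem k (Matrix.det (Matrix.of M)) := by
  refine ⟨?_, ?_⟩
  · show Bialgebra.counitAlgHom k A _ = 1
    rw [AlgHom.map_det]
    convert Matrix.det_one (n := Fin n) (R := k)
    ext i j
    simp [hM.counit, Matrix.one_apply]
  · let iL : A →ₐ[k] A ⊗[k] A := Algebra.TensorProduct.includeLeft
    let iR : A →ₐ[k] A ⊗[k] A := Algebra.TensorProduct.includeRight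
    show Bialgebra.comulAlgHom k A _ = _
    rw [AlgHom.map_det, show (Bialgebra.comulAlgHom k A).mapMatrix (Matrix.of M) =
        iL.mapMatrix (Matrix.of M) * iR.mapMatrix (Matrix.of M) from by
      refine Matrix.ext fun i j => ?_
      rw [Matrix.mul_apply]
      show Coalgebra.comul (R := k) (M i j) = _
      rw [hM.comul]
      simp [iL, iR]]
    rw [Matrix.det_mul, ← AlgHom.map_det, ← AlgHom.map_det]
    simp [iL, iR]

/-- The core: with a trigonalizable subgroup without invariant functions and central tori, the group is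
trigonalizable. -/
theorem isTrigonalizable_of_core {B : Type u} [CommRing B] [HopfAlgebra k B] [Algebra.FiniteType k B] [IsDomain B]
    [Group.IsSolvable (WithConv (B →ₐ[k] k))] (hT : HopfRep.IsTrigonalizable k B) (π : A →ₐc[k] B)
    (hconst : ∀ f : A, (∀ (g : Pt) (h : WithConv (B →ₐ[k] k)),
      (g * toConv (h.ofConv.comp (π : A →ₐ[k] B))).ofConv f = g.ofConv f) → ∃ c : k, f = algebraMap k A c)
    (hcent : ∀ (lam : A →ₐc[k] k[T;T⁻¹]) (f : k[T;T⁻¹] →ₐ[k] k) (g : Pt),
      Commute (toConv (f.comp (lam : A →ₐ[k] k[T;T⁻¹]))) g) :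
    HopfRep.IsTrigonalizable k A := by
  classical
  intro V _ _ cV hVf hVs
  haveI := hVf
  haveI := hVs.1
  obtain ⟨n, hn⟩ := Nat.exists_eq_succ_of_ne_zero (Module.finrank_pos (R := k) (M := V)).ne'
  let b : Module.Basis (Fin (n + 1)) k V := Module.finBasisOfFinrankEq k V hn
  let M : Fin (n + 1) → Fin (n + 1) → A := ComodLib.matrixOf (A := A) b
  have hM : ComodLib.IsComodMatrix k M := ComodLib.isComodMatrix_matrixOf b
  have hrho : ∀ (g : Pt) j, rho k A V g (b j) = ∑ i, g.ofConv (M i j) • b i := fun g j => by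
    rw [rho_apply, ComodLib.actF_apply, ComodLib.coact_matrixOf b, map_sum]
    simp only [ComodLib.slice_tmul]
    rfl
  have hdenseA : ∀ a : A, (∀ g : A →ₐ[k] k, g a = 0) → a = 0 := fun a ha =>
    eq_zero_of_points (k := k) fun g => ha g.ofConv
  -- an eigenvector of the subgroup
  have hMB : ComodLib.IsComodMatrix k fun i j => π (M i j) :=
    ⟨fun i j => by
      rw [← CoalgHomClass.map_comp_comul_apply π, hM.comul, map_sum]
      simp, fun i j => by rw [CoalgHomClass.counit_comp_apply π, hM.counit]⟩
  letI cB := ComodLib.ofMatrix (fun i j => π (M i j)) hMB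
  obtain ⟨v, hv0, hv⟩ := AlgGrpQ.exists_eigen (k := k) (A := B) (V := Fin (n + 1) → k)
  obtain ⟨q, hq⟩ : ∃ q, v q ≠ 0 := by
    by_contra h
    push Not at h
    exact hv0 (funext h)
  have horbB : ∀ x, π (ComodLib.orbit k M v x) = ComodLib.orbit k (fun i j => π (M i j)) v x := fun x => by
    simp only [ComodLib.orbit, map_sum, map_smul]
  let θ : B := (v q)⁻¹ • π (ComodLib.orbit k M v q)
  have hθ : ∀ (h : WithConv (B →ₐ[k] k)) x, h.ofConv (π (ComodLib.orbit k M v x)) = v x * h.ofConv θ := by
    intro h x
    obtain ⟨c, hc⟩ := hv h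
    have hco : ∀ y, h.ofConv (π (ComodLib.orbit k M v y)) = c * v y := fun y => by
      have h1 := congrFun hc y
      rw [rho_apply, ComodLib.actF_apply,
        show HopfRep.Comod.coact (k := k) (A := B) v = _ from ComodLib.ofMatrix_coact _ hMB v, map_sum] at h1
      simp only [ComodLib.slice_tmul, Finset.sum_apply, Pi.smul_apply, Pi.basisFun_apply, Pi.single_apply,
        smul_eq_mul, mul_ite, mul_one, mul_zero, Finset.sum_ite_eq, Finset.mem_univ, if_true] at h1
      rw [horbB]
      exact h1
    rw [show h.ofConv θ = (v q)⁻¹ * h.ofConv (π (ComodLib.orbit k M v q)) from map_smul h.ofConv _ _, hco, hco]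
    field_simp
  have hπθ : ∀ x, π (ComodLib.orbit k M v x) = v x • θ := fun x =>
    sub_eq_zero.1 (eq_zero_of_points (k := k) fun h => by rw [map_sub, map_smul, hθ, smul_eq_mul, sub_self])
  have hmulorb : ∀ (g : Pt) (h : WithConv (B →ₐ[k] k)) x,
      (g * toConv (h.ofConv.comp (π : A →ₐ[k] B))).ofConv (ComodLib.orbit k M v x) =
        g.ofConv (ComodLib.orbit k M v x) * h.ofConv θ := by
    intro g h x
    refine (convMul_orbit hM v g.ofConv (h.ofConv.comp (π : A →ₐ[k] B)) x).trans ?_
    simp only [AlgHom.comp_apply]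
    rw [show ∑ r, g.ofConv (M x r) * h.ofConv ((π : A →ₐ[k] B) (ComodLib.orbit k M v r)) =
        ∑ r, g.ofConv (M x r) * (v r * h.ofConv θ) from Finset.sum_congr rfl fun r _ => congrArg _ (hθ h r)]
    simp only [ComodLib.orbit, map_sum, map_smul, smul_eq_mul, Finset.sum_mul]
    exact Finset.sum_congr rfl fun r _ => by ring
  have hθmul : ∀ h h' : WithConv (B →ₐ[k] k), (h * h').ofConv θ = h.ofConv θ * h'.ofConv θ := by
    intro h h'
    have h1 := hθ (h * h') q
    have h2 := hmulorb (toConv (h.ofConv.comp (π : A →ₐ[k] B))) h' q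
    rw [← AlgHom.convMul_comp_bialgHom_distrib] at h2
    have h3 : v q * (h * h').ofConv θ = v q * h.ofConv θ * h'.ofConv θ := by
      rw [← h1, ← hθ h q]
      exact h2
    exact mul_left_cancel₀ hq (h3.trans (mul_assoc _ _ _))
  -- the normalizing determinant
  let δ : A := Matrix.det (Matrix.of M)
  have hδ : IsGroupLikeElem k δ := comul_det hM
  let δ' : A := HopfAlgebra.antipode k δ
  have hδ' : IsGroupLikeElem k δ' := hδ.antipode
  have hθ1 : IsGroupLikeElem k θ := by
    refine ⟨?_, tmul_ext_of_points (k := k) fun h h' => ?_⟩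
    · have h1 := hθ 1 q
      rw [AlgHom.convOne_apply, AlgHom.convOne_apply, Algebra.algebraMap_self_apply, Algebra.algebraMap_self_apply,
        CoalgHomClass.counit_comp_apply π] at h1
      have h2 : Coalgebra.counit (R := k) (ComodLib.orbit k M v q) = v q := by
        simp [ComodLib.orbit, hM.counit]
      rw [h2] at h1
      exact mul_left_cancel₀ hq (h1.symm.trans (_root_.mul_one _).symm)
    · rw [Algebra.TensorProduct.lift_tmul]
      exact (AlgHom.convMul_apply h h' θ).symm.trans (hθmul h h')
  let ψ : B := θ ^ (n + 1) * π δ'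
  have hψ : IsGroupLikeElem k ψ := hθ1.pow.mul (hδ'.map π)
  -- characters vanish on central tori
  obtain ⟨Θ, hΘ⟩ := Solv.exists_splitting hT
  let ω : WithConv (B →ₐ[k] k) →* Pt := MonoidHom.mk' (fun h => toConv (h.ofConv.comp (π : A →ₐ[k] B)))
    fun h h' => WithConv.ofConv_injective (AlgHom.convMul_comp_bialgHom_distrib h h' π)
  let N := GroupLike k B
  haveI : Monoid.FG N := by
    haveI : Algebra.FiniteType k (MonoidAlgebra k N) :=
      Algebra.FiniteType.of_surjective (Θ : B →ₐ[k] MonoidAlgebra k N) (fun z => ⟨_, hΘ z⟩)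
    exact MonoidAlgebra.finiteType_iff_fg.1 ‹Algebra.FiniteType k (MonoidAlgebra k N)›
  haveI : Group.FG N := Group.fg_iff_monoid_fg.2 inferInstance
  haveI : Module.Finite ℤ (Additive N) := Module.Finite.iff_addGroup_fg.2 inferInstance
  let e : N ≃* Multiplicative (Fin (Module.finrank ℤ (Additive N)) → ℤ) :=
    AddEquiv.toMultiplicativeRight (Module.finBasis ℤ (Additive N)).equivFun.toAddEquiv
  have hcen : ∀ (x : N →* kˣ) (g : Pt), Commute (ω (Solv.theta Θ x)) g := by
    intro x g
    let s : Fin (Module.finrank ℤ (Additive N)) → kˣ := fun i => x (e.symm (Multiplicative.ofAdd (Pi.single i 1)))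
    let xi : Fin (Module.finrank ℤ (Additive N)) → (N →* kˣ) := fun i =>
      (zpowersHom kˣ (s i)).comp ((AddMonoidHom.toMultiplicative (Pi.evalAddMonoidHom (fun _ => ℤ) i)).comp e.toMonoidHom)
    have hx : x = ∏ i, xi i := by
      refine MonoidHom.ext fun m => ?_
      obtain ⟨d, rfl⟩ := e.symm.surjective m
      rw [MonoidHom.finset_prod_apply]
      have hd : d = ∏ i, Multiplicative.ofAdd (Pi.single i (1 : ℤ)) ^ (d.toAdd i) := by
        apply Multiplicative.toAdd.injective
        funext j
        simp [Pi.single_apply]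
      conv_lhs => rw [hd, map_prod, map_prod]
      refine Finset.prod_congr rfl fun i _ => ?_
      simp [xi, s, map_zpow]
    have hxi : ∀ i, Commute (ω (Solv.theta Θ (xi i))) g := by
      intro i
      let l : (Fin (Module.finrank ℤ (Additive N)) → ℤ) →+ ℤ := Pi.evalAddMonoidHom (fun _ => ℤ) i
      let lam : A →ₐc[k] k[T;T⁻¹] :=
        (Cent.coch (k := k) l).comp ((MonoidAlgebra.mapDomainBialgHom k e.toMonoidHom).comp (Θ.comp π))
      let f : k[T;T⁻¹] →ₐ[k] k := AddMonoidAlgebra.lift k k ℤ ((Units.coeHom k).comp (zpowersHom kˣ (s i)))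
      have he : ω (Solv.theta Θ (xi i)) = toConv (f.comp (lam : A →ₐ[k] k[T;T⁻¹])) := by
        refine WithConv.ofConv_injective (AlgHom.ext fun a => ?_)
        show SolvChar.liftC (xi i) (Θ (π a)) =
          f (Cent.coch (k := k) l (MonoidAlgebra.mapDomainBialgHom k e.toMonoidHom (Θ (π a))))
        induction Θ (π a) using MonoidAlgebra.induction_linear with
        | zero => simp
        | add p q hp hq => simp only [map_add, hp, hq]
        | single m r =>
          rw [show MonoidAlgebra.single m r = r • MonoidAlgebra.single m (1 : k) by simp, map_smul, map_smul, map_smul,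
            map_smul]
          congr 1
          have : MonoidAlgebra.mapDomainBialgHom k e.toMonoidHom (MonoidAlgebra.single m (1 : k)) =
              MonoidAlgebra.single (e m) 1 := by simp
          rw [this, Cent.coch_single]
          simp [f, xi, s, l, LaurentPolynomial.T, -LaurentPolynomial.single_eq_C_mul_T]
      rw [he]
      exact hcent lam f g
    have hmem : x ∈ (Subgroup.centralizer {g}).comap (ω.comp (Solv.theta Θ)) := by
      rw [hx]
      exact Subgroup.prod_mem _ fun i _ => Subgroup.mem_centralizer_singleton_iff.2 (hxi i).eq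
    exact Subgroup.mem_centralizer_singleton_iff.1 hmem
  have hscalar : ∀ t : Pt, (∀ g, Commute t g) → ∃ c : k, ∀ i j, t.ofConv (M i j) = if i = j then c else 0 := by
    intro t ht
    obtain ⟨c, hc⟩ := Module.End.exists_eigenvalue (rho k A V t)
    have hst : HopfRep.IsSubcomod (k := k) (A := A) (Module.End.eigenspace (rho k A V t) c) := by
      refine isSubcomod_of_rho_mem hdenseA _ fun g w hw => ?_
      rw [Module.End.mem_eigenspace_iff] at hw ⊢
      rw [← Module.End.mul_apply, ← map_mul, ht g, map_mul, Module.End.mul_apply, hw, map_smul]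
    have htop := (hVs.2 _ hst).resolve_left hc
    refine ⟨c, fun i j => ?_⟩
    have hw : b j ∈ Module.End.eigenspace (rho k A V t) c := htop ▸ Submodule.mem_top
    rw [Module.End.mem_eigenspace_iff, hrho] at hw
    have := congrArg (fun z => b.repr z i) hw
    simpa [Finsupp.single_apply, eq_comm] using this
  have hψ1 : ψ = 1 := by
    have key : MonoidAlgebra.single (⟨ψ, hψ⟩ : N) (1 : k) = 1 := by
      refine sub_eq_zero.1 (eq_zero_of_points (k := k) fun g => ?_)
      obtain ⟨x, hx⟩ := SolvSch.exists_liftC g.ofConv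
      rw [hx, map_sub, map_one, sub_eq_zero]
      have h1 : SolvChar.liftC x (MonoidAlgebra.single (⟨ψ, hψ⟩ : N) (1 : k)) =
          (Solv.theta Θ x).ofConv ψ := by
        rw [Solv.theta_apply]
        congr 1
        have h := hΘ (MonoidAlgebra.single (⟨ψ, hψ⟩ : N) (1 : k))
        rw [Solv.chr_single, one_smul] at h
        exact h.symm
      rw [h1]
      obtain ⟨c, hc⟩ := hscalar _ (hcen x)
      have hω : ∀ a, (ω (Solv.theta Θ x)).ofConv a = (Solv.theta Θ x).ofConv (π a) := fun a => rfl
      have hcθ : (Solv.theta Θ x).ofConv θ = c := by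
        have h1 := hθ (Solv.theta Θ x) q
        rw [← hω] at h1
        simp only [ComodLib.orbit, map_sum, map_smul, smul_eq_mul, hc, mul_ite, mul_zero, Finset.sum_ite_eq,
          Finset.mem_univ, if_true] at h1
        exact (mul_left_cancel₀ hq h1).symm
      have hcδ : (Solv.theta Θ x).ofConv (π δ) = c ^ (n + 1) := by
        rw [← hω, AlgHom.map_det]
        have : (ω (Solv.theta Θ x)).ofConv.mapMatrix (Matrix.of M) = Matrix.diagonal fun _ => c := by
          refine Matrix.ext fun i j => ?_
          rw [Matrix.diagonal_apply, ← hc i j]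
          rfl
        rw [this, Matrix.det_diagonal, Finset.prod_const, Finset.card_univ, Fintype.card_fin]
      have hunit : (Solv.theta Θ x).ofConv (π δ) * (Solv.theta Θ x).ofConv (π δ') = 1 := by
        rw [← map_mul, ← map_mul, show δ * δ' = 1 from hδ.mul_antipode_cancel, map_one, map_one]
      rw [map_mul, map_pow, hcθ, ← hcδ]
      exact hunit
    have := congrArg (Solv.chr (k := k) (A := B)) key
    rwa [Solv.chr_single, one_smul, map_one] at this
  -- the orbit functions are proportional
  have hf : ∀ y, ∃ c : k, ComodLib.orbit k M v y * ComodLib.orbit k M v q ^ n * δ' = algebraMap k A c := by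
    intro y
    refine hconst _ fun g h => ?_
    have hd' : (g * toConv (h.ofConv.comp (π : A →ₐ[k] B))).ofConv δ' = g.ofConv δ' * h.ofConv (π δ') :=
      Solv.groupLike_map_mul g _ hδ'
    simp only [map_mul, map_pow, hmulorb, hd']
    have : h.ofConv θ ^ (n + 1) * h.ofConv (π δ') = 1 := by
      rw [← map_pow, ← map_mul, show θ ^ (n + 1) * π δ' = 1 from hψ1, map_one]
    linear_combination (g.ofConv (ComodLib.orbit k M v y) * g.ofConv (ComodLib.orbit k M v q) ^ n * g.ofConv δ') * this
  have hf' : ∀ y, ComodLib.orbit k M v y * ComodLib.orbit k M v q ^ n * δ' = algebraMap k A (v y * v q ^ n) := by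
    intro y
    obtain ⟨c, hc⟩ := hf y
    have h1 := congrArg (Bialgebra.counitAlgHom k A) hc
    rw [map_mul, map_mul, map_pow, AlgHom.commutes] at h1
    have h2 : ∀ z, Bialgebra.counitAlgHom k A (ComodLib.orbit k M v z) = v z := fun z => by
      simp [ComodLib.orbit, hM.counit]
    rw [h2, h2, show Bialgebra.counitAlgHom k A δ' = 1 from hδ'.counit_eq_one, _root_.mul_one,
      Algebra.algebraMap_self_apply] at h1
    rw [hc, h1]
  have hprop : ∀ y, v q • ComodLib.orbit k M v y = v y • ComodLib.orbit k M v q := by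
    intro y
    have h1 := hf' y
    have h2 := hf' q
    have hne : ComodLib.orbit k M v q ^ n * δ' ≠ 0 := fun h0 => by
      rw [mul_assoc, h0, mul_zero] at h2
      exact mul_ne_zero hq (pow_ne_zero n hq) ((map_eq_zero_iff _ (algebraMap k A).injective).1 h2.symm)
    refine mul_right_cancel₀ hne ?_
    rw [Algebra.smul_def, Algebra.smul_def, mul_assoc, ← mul_assoc (ComodLib.orbit k M v y), h1, mul_assoc,
      ← mul_assoc (ComodLib.orbit k M v q), h2, ← map_mul, ← map_mul]
    congr 1
    ring
  let w : V := ∑ i, v i • b i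
  have hw : ∀ g : Pt, rho k A V g w ∈ Submodule.span k {w} := by
    intro g
    refine Submodule.mem_span_singleton.2 ⟨(v q)⁻¹ * g.ofConv (ComodLib.orbit k M v q), ?_⟩
    simp only [w, map_sum, map_smul, hrho, Finset.smul_sum, smul_smul]
    rw [Finset.sum_comm]
    refine Finset.sum_congr rfl fun i _ => ?_
    rw [← Finset.sum_smul]
    congr 1
    have h := congrArg g.ofConv (hprop i)
    rw [map_smul, map_smul, smul_eq_mul, smul_eq_mul] at h
    have h' : g.ofConv (ComodLib.orbit k M v i) = ∑ j, v j * g.ofConv (M i j) := by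
      simp [ComodLib.orbit]
    rw [← h']
    field_simp
    linear_combination -h
  have hsub : HopfRep.IsSubcomod (k := k) (A := A) (Submodule.span k {w}) := by
    refine isSubcomod_of_rho_mem hdenseA _ fun g z hz => ?_
    obtain ⟨r, rfl⟩ := Submodule.mem_span_singleton.1 hz
    rw [map_smul]
    exact Submodule.smul_mem _ r (hw g)
  have hw0 : w ≠ 0 := fun h0 => hq (by
    have := congrArg (fun z => b.repr z q) h0
    simpa [w, Finsupp.single_apply] using this)
  rcases hVs.2 _ hsub with h | h
  · exact absurd (Submodule.span_singleton_eq_bot.mp h) hw0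
  · rw [← finrank_top k V, ← h, finrank_span_singleton hw0]

end Groth.Agent.AlgGrpQ.Ratl
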