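import Mathlib.RingTheory.RingHom.OpenImmersion
import Mathlib.RingTheory.Localization.BaseChange
import Mathlib.RingTheory.Localization.Algebra
import Mathlib.RingTheory.MvPolynomial.Basic
import Mathlib.Algebra.MvPolynomial.Equiv
import Mathlib.RingTheory.Polynomial.Basic
import Mathlib.LinearAlgebra.TensorProduct.Tower
import Mathlib.RingTheory.MvPolynomial.Ideal
import Mathlib.Tactic.LinearCombination
import Mathlib.RingTheory.TensorProduct.MvPolynomial
import Mathlib.RingTheory.Flat.Basic
import Mathlib.LinearAlgebra.FreeModule.Basic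
import Mathlib.LinearAlgebra.Basis.VectorSpace

/-!
# Algebras with a common standard open with a polynomial algebra
-/

set_option autoImplicit false
set_option linter.style.haveILetI false

universe u

open TensorProduct

namespace Groth.Agent.AlgGrpQ.Ratl

variable {k : Type u} [Field k] {A B C D : Type u} [CommRing A] [CommRing B] [CommRing C] [CommRing D]
  [Algebra k A] [Algebra k B] [Algebra k C] [Algebra k D]

/-- A standard open immersion of algebras. -/
def Std (f : A →ₐ[k] B) : Prop := f.toRingHom.IsStandardOpenImmersion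

theorem Std.comp {f : A →ₐ[k] B} {g : B →ₐ[k] C} (hg : Std g) (hf : Std f) : Std (g.comp f) :=
  RingHom.IsStandardOpenImmersion.comp hf hg

theorem std_of_bijective {f : A →ₐ[k] B} (hf : Function.Bijective f) : Std f :=
  RingHom.IsStandardOpenImmersion.of_bijective hf

theorem std_of_away {f : A →ₐ[k] B} (r : A) (h : @IsLocalization.Away A _ r B _ f.toRingHom.toAlgebra) : Std f :=
  letI := f.toRingHom.toAlgebra
  ⟨r, h⟩

theorem Std.exists_away {f : A →ₐ[k] B} (hf : Std f) :
    ∃ r : A, @IsLocalization.Away A _ r B _ f.toRingHom.toAlgebra :=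
  letI := f.toRingHom.toAlgebra
  hf.1

/-- The localization at one element. -/
theorem std_toLocalization (r : A) : Std (IsScalarTower.toAlgHom k A (Localization.Away r)) :=
  RingHom.IsStandardOpenImmersion.algebraMap r

theorem Std.map_id {f : A →ₐ[k] B} (hf : Std f) :
    Std (Algebra.TensorProduct.map f (AlgHom.id k C)) := by
  obtain ⟨r, hr⟩ := hf.exists_away
  letI := f.toRingHom.toAlgebra
  haveI : IsScalarTower k A B := IsScalarTower.of_algebraMap_eq fun x => (f.commutes x).symm
  letI alg : Algebra (A ⊗[k] C) (B ⊗[k] C) := (Algebra.TensorProduct.map f (AlgHom.id k C)).toRingHom.toAlgebra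
  haveI : IsScalarTower A (A ⊗[k] C) (B ⊗[k] C) := IsScalarTower.of_algebraMap_eq fun x => by
    show _ = Algebra.TensorProduct.map f (AlgHom.id k C) (x ⊗ₜ[k] (1 : C))
    simp
    rfl
  have h := IsLocalization.tensorProduct_tensorProduct k C (A := A) (Submonoid.powers r) B
    (RingHom.ext fun x => by
      show Algebra.TensorProduct.map f (AlgHom.id k C) ((1 : A) ⊗ₜ[k] x) = (1 : B) ⊗ₜ[k] x
      simp)
  refine std_of_away (algebraMap A (A ⊗[k] C) r) ?_
  have e : Algebra.algebraMapSubmonoid (A ⊗[k] C) (Submonoid.powers r) =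
      Submonoid.powers (algebraMap A (A ⊗[k] C) r) := Submonoid.map_powers _ r
  rw [e] at h
  exact h

theorem Std.map {f : A →ₐ[k] B} {g : C →ₐ[k] D} (hf : Std f) (hg : Std g) :
    Std (Algebra.TensorProduct.map f g) := by
  have heq : Algebra.TensorProduct.map f g =
      ((Algebra.TensorProduct.comm k D B).toAlgHom.comp
        ((Algebra.TensorProduct.map g (AlgHom.id k B)).comp (Algebra.TensorProduct.comm k B C).toAlgHom)).comp
          (Algebra.TensorProduct.map f (AlgHom.id k C)) := by
    ext <;> simp
  rw [heq]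
  exact ((std_of_bijective (Algebra.TensorProduct.comm k D B).bijective).comp
    (hg.map_id.comp (std_of_bijective (Algebra.TensorProduct.comm k B C).bijective))).comp hf.map_id

/-- An algebra with a common standard open with a polynomial algebra. -/
def Chart (k : Type u) [Field k] (A : Type u) [CommRing A] [Algebra k A] : Prop :=
  ∃ (σ : Type u) (_ : Finite σ) (B : Type u) (_ : CommRing B) (_ : Algebra k B) (_ : IsDomain B)
    (j : A →ₐ[k] B) (i : MvPolynomial σ k →ₐ[k] B), Std j ∧ Std i

theorem Std.injective {f : A →ₐ[k] B} [IsDomain A] [Nontrivial B] (hf : Std f) : Function.Injective f := by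
  obtain ⟨r, hr⟩ := hf.exists_away
  letI := f.toRingHom.toAlgebra
  refine IsLocalization.injective B (M := Submonoid.powers r) ?_
  refine powers_le_nonZeroDivisors_of_noZeroDivisors fun h0 => ?_
  have := IsLocalization.Away.algebraMap_isUnit r (S := B)
  rw [h0, map_zero] at this
  exact not_isUnit_zero this

theorem isDomain_away [IsDomain A] {r : A} (hr : r ≠ 0) : IsDomain (Localization.Away r) :=
  IsLocalization.isDomain_localization (powers_le_nonZeroDivisors_of_noZeroDivisors hr)

/-- Pulling a chart back along a standard open immersion. -/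
theorem Chart.of_std {f : A →ₐ[k] B} (hf : Std f) (h : Chart k B) : Chart k A := by
  obtain ⟨σ, hσ, T, _, _, _, j, i, hj, hi⟩ := h
  exact ⟨σ, hσ, T, inferInstance, inferInstance, inferInstance, j.comp f, i, hj.comp hf, hi⟩

theorem chart_of_equiv (e : A ≃ₐ[k] B) (h : Chart k B) : Chart k A :=
  Chart.of_std (std_of_bijective (f := (e : A →ₐ[k] B)) e.bijective) h

theorem chart_mvPolynomial (σ : Type u) [Finite σ] : Chart k (MvPolynomial σ k) :=
  ⟨σ, inferInstance, MvPolynomial σ k, inferInstance, inferInstance, inferInstance, AlgHom.id k _, AlgHom.id k _,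
    std_of_bijective Function.bijective_id, std_of_bijective Function.bijective_id⟩

theorem chart_self : Chart k k :=
  chart_of_equiv (MvPolynomial.isEmptyAlgEquiv k PEmpty.{u + 1}).symm (chart_mvPolynomial PEmpty)

/-- A tensor product of two chartable algebras is chartable. -/
theorem Chart.tensor (hA : Chart k A) (hB : Chart k B) : Chart k (A ⊗[k] B) := by
  obtain ⟨σ, hσ, T, _, _, _, j, i, hj, hi⟩ := hA
  obtain ⟨τ, hτ, T', _, _, _, j', i', hj', hi'⟩ := hB
  let e : MvPolynomial (σ ⊕ τ) k ≃ₐ[k] MvPolynomial σ k ⊗[k] MvPolynomial τ k :=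
    (MvPolynomial.tensorEquivSum k σ τ k).symm
  let I := (Algebra.TensorProduct.map i i').comp (e : MvPolynomial (σ ⊕ τ) k →ₐ[k] _)
  have hI : Std I := (hi.map hi').comp (std_of_bijective e.bijective)
  have hdom : IsDomain (T ⊗[k] T') := by
    obtain ⟨r, hr⟩ := hI.exists_away
    letI := I.toRingHom.toAlgebra
    haveI : Nontrivial (T ⊗[k] T') :=
      Algebra.TensorProduct.nontrivial_of_algebraMap_injective_of_flat_left k T T' (algebraMap k T').injective
    refine IsLocalization.isDomain_of_le_nonZeroDivisors _ (M := Submonoid.powers r)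
      (powers_le_nonZeroDivisors_of_noZeroDivisors fun h0 => ?_)
    have := IsLocalization.Away.algebraMap_isUnit r (S := T ⊗[k] T')
    rw [h0, map_zero] at this
    exact not_isUnit_zero this
  exact ⟨σ ⊕ τ, inferInstance, T ⊗[k] T', inferInstance, inferInstance, hdom, Algebra.TensorProduct.map j j', I,
    hj.map hj', hI⟩

open Polynomial in
/-- A domain which is a polynomial algebra over a chartable subalgebra, after inverting one element. -/
theorem Chart.of_slice [IsDomain A] (R : Subalgebra k A) (hR : Chart k R) (b : R) (hb : b ≠ 0) (a : A)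
    (hgen : ∀ x : A, ∃ (N : ℕ) (p : R[X]), (b : A) ^ N * x = aeval a p)
    (hinj : ∀ p : R[X], aeval a p = 0 → p = 0) : Chart k A := by
  obtain ⟨σ, hσ, T, _, _, _, j, i, hj, hi⟩ := hR
  have hb' : j b ≠ 0 := fun h => hb (hj.injective (h.trans (map_zero j).symm))
  let T' := Localization.Away (j b)
  haveI := isDomain_away hb'
  let l := IsScalarTower.toAlgHom k T T'
  let j' := l.comp j
  let i' := l.comp i
  have hj' : Std j' := (std_toLocalization (j b)).comp hj
  have hi' : Std i' := (std_toLocalization (j b)).comp hi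
  have hmapX : ∀ {P Q : Type u} [CommRing P] [CommRing Q] [Algebra k P] [Algebra k Q] (f : P →ₐ[k] Q) (r : P),
      @IsLocalization.Away P _ r Q _ f.toRingHom.toAlgebra →
      @IsLocalization.Away P[X] _ (C r) Q[X] _ (mapAlgHom f).toRingHom.toAlgebra := by
    intro P Q _ _ _ _ f r hr
    letI := f.toRingHom.toAlgebra
    have h := Polynomial.isLocalization (Submonoid.powers r) Q
    rw [Submonoid.map_powers] at h
    exact h
  obtain ⟨r, hr⟩ := hi'.exists_away
  obtain ⟨s, hs⟩ := hj'.exists_away
  let eσ : MvPolynomial (Option σ) k ≃ₐ[k] (MvPolynomial σ k)[X] := MvPolynomial.optionEquivLeft k σ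
  let φ : R[X] →ₐ[k] A := (aeval (R := R) a).restrictScalars k
  have hbu : IsUnit (mapAlgHom j' (C b)) := by
    rw [coe_mapAlgHom, map_C]
    exact (IsLocalization.Away.algebraMap_isUnit (j b)).map C
  have hφb : φ (C b) = (b : A) := aeval_C (R := R) a b
  have hbA : (b : A) ≠ 0 := fun h => hb (Subtype.ext h)
  have hφinj : Function.Injective φ := (injective_iff_map_eq_zero φ).2 hinj
  choose N p hp using hgen
  have key : ∀ (x : A) (n : ℕ) (q : R[X]), (b : A) ^ n * x = φ q → mapAlgHom j' q * C (j' b) ^ N x = C (j' b) ^ n * mapAlgHom j' (p x) := by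
    intro x n q hq
    have : q * C b ^ N x = C b ^ n * p x := hφinj (by
      rw [map_mul, map_mul, map_pow, map_pow, hφb, ← hq]
      show (b : A) ^ n * x * (b : A) ^ N x = (b : A) ^ n * aeval a (p x)
      rw [← hp]
      ring)
    have := congrArg (mapAlgHom j') this
    simpa using this
  have hC : ∀ n, IsUnit (C (j' b) ^ n : T'[X]) := fun n =>
    (((IsLocalization.Away.algebraMap_isUnit (j b)) : IsUnit (j' b)).map C).pow n
  let χf : A → T'[X] := fun x => mapAlgHom j' (p x) * ((hC (N x)).unit⁻¹ : T'[X]ˣ)
  have hp' : ∀ x, φ (p x) = (b : A) ^ N x * x := fun x => (hp x).symm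
  have hmulφ : ∀ x y, (b : A) ^ (N x + N y) * (x * y) = φ (p x * p y) := fun x y => by
    rw [map_mul, hp', hp']
    ring
  have haddφ : ∀ x y, (b : A) ^ (N x + N y) * (x + y) = φ (C b ^ N y * p x + C b ^ N x * p y) := fun x y => by
    rw [map_add, map_mul, map_mul, map_pow, map_pow, hφb, hp', hp']
    ring
  have hχ : ∀ (x : A) (n : ℕ) (q : R[X]), (b : A) ^ n * x = φ q → χf x * C (j' b) ^ n = mapAlgHom j' q := by
    intro x n q hq
    refine (hC (N x)).mul_right_cancel ?_
    rw [key x n q hq]
    show mapAlgHom j' (p x) * _ * C (j' b) ^ n * C (j' b) ^ N x = _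
    have := (hC (N x)).val_inv_mul
    calc mapAlgHom j' (p x) * ((hC (N x)).unit⁻¹ : T'[X]ˣ) * C (j' b) ^ n * C (j' b) ^ N x
        = mapAlgHom j' (p x) * C (j' b) ^ n * ((((hC (N x)).unit⁻¹ : T'[X]ˣ) : T'[X]) * C (j' b) ^ N x) := by ring
      _ = C (j' b) ^ n * mapAlgHom j' (p x) := by rw [this]; ring
  let χ : A →ₐ[k] T'[X] :=
    { toFun := χf
      map_one' := by
        have h := hχ 1 0 1 (by simp)
        simpa using h
      map_mul' := fun x y => by
        refine (hC (N x + N y)).mul_right_cancel ?_
        rw [hχ (x * y) (N x + N y) _ (hmulφ x y),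
          map_mul, pow_add, ← hχ x (N x) (p x) (hp x), ← hχ y (N y) (p y) (hp y)]
        ring
      map_zero' := by
        have h := hχ 0 0 0 (by simp)
        simpa using h
      map_add' := fun x y => by
        refine (hC (N x + N y)).mul_right_cancel ?_
        rw [hχ (x + y) (N x + N y) _ (haddφ x y),
          map_add, map_mul, map_mul, map_pow, map_pow, pow_add, ← hχ x (N x) (p x) (hp x), ← hχ y (N y) (p y) (hp y)]
        simp
        ring
      commutes' := fun z => by
        have h := hχ (algebraMap k A z) 0 (algebraMap k R[X] z) ((by simp : (b : A) ^ 0 * algebraMap k A z = algebraMap k A z).trans (φ.commutes z).symm)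
        simpa using h }
  have hχφ : ∀ q, χ (φ q) = mapAlgHom j' q := fun q => by
    have h := hχ (φ q) 0 q (by simp)
    rw [pow_zero, mul_one] at h
    exact h
  refine ⟨Option σ, inferInstance, T'[X], inferInstance, inferInstance, inferInstance, χ,
    (mapAlgHom i').comp (eσ : MvPolynomial (Option σ) k →ₐ[k] _), ?_,
    (std_of_away (C r) (hmapX i' r hr)).comp (std_of_bijective eσ.bijective)⟩
  have hloc := hmapX j' s hs
  letI := (mapAlgHom j').toRingHom.toAlgebra
  refine std_of_away (φ (C s)) ?_
  letI := χ.toRingHom.toAlgebra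
  refine IsLocalization.Away.mk _ ?_ ?_ ?_
  · show IsUnit (χ (φ (C s)))
    rw [hχφ]
    exact IsLocalization.Away.algebraMap_isUnit (S := T'[X]) (C s)
  · intro z
    obtain ⟨n, q, hq⟩ := IsLocalization.Away.surj (C s) z
    refine ⟨n, φ q, ?_⟩
    show z * χ (φ (C s)) ^ n = χ (φ q)
    rw [hχφ, hχφ]
    exact hq
  · intro x y hxy
    replace hxy : χ x = χ y := hxy
    have hq : mapAlgHom j' (C b ^ N y * p x) = mapAlgHom j' (C b ^ N x * p y) := by
      rw [map_mul, map_mul, ← hχ x (N x) (p x) (hp x), ← hχ y (N y) (p y) (hp y)]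
      show _ * (χ x * _) = _ * (χ y * _)
      rw [hxy]
      simp
      ring
    obtain ⟨m, hm⟩ := IsLocalization.Away.exists_of_eq (S := T'[X]) (C s) hq
    refine ⟨m, mul_left_cancel₀ (pow_ne_zero (N x + N y) hbA) ?_⟩
    have := congrArg φ hm
    rw [map_mul, map_mul, map_mul, map_mul, map_pow, map_pow, map_pow, hφb, hp', hp'] at this
    linear_combination this

end Groth.Agent.AlgGrpQ.Ratl
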