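import Groth.Agent.AlgGrpQ.GaLine
import Groth.Agent.AlgGrpQ.Prim
import Groth.Agent.NonAbLib.DenseFG.Sets
import Groth.Agent.VarDim.Basic
import Groth.Agent.GrpSchLib.HopfGalois
import Groth.Agent.DynLib41.Basic
import Groth.Prelude.Def_SGA3
import Mathlib.RingTheory.Ideal.KrullsHeightTheorem

/-!
# A unipotent connected group contains a central additive group
-/

set_option autoImplicit false
set_option linter.style.haveILetI false

universe u

open TensorProduct WithConv
open scoped commutatorElement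

namespace Groth.Agent.AlgGrpQ.Ratl

open scoped Groth.Agent.DynLib41
open Groth.Agent.NonAbLib.DenseFG (vI pts mem_vI isPrime_vI subset_pts_vI pts_anti vI_anti mapsTo_cl isIrred_pts
  isHopfIdeal_vI vI_pts)

variable {k : Type u} [Field k] [IsAlgClosed k] {A : Type u} [CommRing A] [HopfAlgebra k A]

local notation "Pt" => WithConv (A →ₐ[k] k)

set_option maxHeartbeats 1000000

omit [IsAlgClosed k] in
theorem isUnipotent_quotient [Algebra.FiniteType k A] (hU : HopfRep.IsUnipotent k A) (I : Ideal A)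
    [I.IsHopfIdeal k] : HopfRep.IsUnipotent k (A ⧸ I) :=
  isUnipotent_of_surjective (Bialgebra.Quotient.mkBialgHom I) Ideal.Quotient.mk_surjective hU

omit [IsAlgClosed k] in
/-- The union of the irreducible subsets through the identity is a subgroup with irreducible points. -/
theorem exists_component (H : Subgroup Pt) : ∃ K : Subgroup Pt, K ≤ H ∧ IsIrred (K : Set Pt) ∧
    ∀ S : Set Pt, IsIrred S → (1 : Pt) ∈ S → S ⊆ H → S ⊆ K := by
  let F : Set (Set Pt) := {S | IsIrred S ∧ (1 : Pt) ∈ S ∧ S ⊆ H}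
  have hmul : ∀ S ∈ F, ∀ T ∈ F, Set.image2 (· * ·) S T ∈ F := by
    rintro S ⟨hS, hS1, hSH⟩ T ⟨hT, hT1, hTH⟩
    refine ⟨hS.image2 hT (fun t => isReg_id.mul (isReg_const t)) (fun s => (isReg_const s).mul isReg_id),
      ⟨1, hS1, 1, hT1, _root_.one_mul 1⟩, ?_⟩
    rintro _ ⟨x, hx, y, hy, rfl⟩
    exact H.mul_mem (hSH hx) (hTH hy)
  have hinv : ∀ S ∈ F, (fun g : Pt => g⁻¹) '' S ∈ F := by
    rintro S ⟨hS, hS1, hSH⟩
    refine ⟨NonAbLib.DenseFG.isIrred_image hS isReg_id.inv, ⟨1, hS1, inv_one⟩, ?_⟩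
    rintro _ ⟨x, hx, rfl⟩
    exact H.inv_mem (hSH hx)
  have h1 : {(1 : Pt)} ∈ F := ⟨isIrred_singleton 1, rfl, fun x hx => hx ▸ H.one_mem⟩
  refine ⟨{ carrier := ⋃₀ F
            one_mem' := ⟨_, h1, rfl⟩
            mul_mem' := fun {x y} ⟨S, hS, hx⟩ ⟨T, hT, hy⟩ => ⟨_, hmul S hS T hT, x, hx, y, hy, rfl⟩
            inv_mem' := fun {x} ⟨S, hS, hx⟩ => ⟨_, hinv S hS, x, hx, rfl⟩ }, ?_, ?_, ?_⟩
  · rintro x ⟨S, hS, hx⟩
    exact hS.2.2 hx
  · intro a b hab
    by_contra hne
    push Not at hne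
    obtain ⟨⟨g, ⟨S, hS, hg⟩, ha⟩, ⟨h, ⟨T, hT, hh⟩, hb⟩⟩ := hne
    have hm := hmul S hS T hT
    rcases hm.1 a b (fun x hx => hab x ⟨_, hm, hx⟩) with h' | h'
    · exact ha (h' g ⟨g, hg, 1, hT.2.1, _root_.mul_one g⟩)
    · exact hb (h' h ⟨1, hS.2.1, h, hh, _root_.one_mul h⟩)
  · exact fun S hS h1 hH x hx => ⟨S, ⟨hS, h1, hH⟩, hx⟩

omit [IsAlgClosed k] in
/-- An irreducible set through the identity generates an irreducible subgroup. -/
theorem isIrred_closure {S : Set Pt} (hS : IsIrred S) (h1 : (1 : Pt) ∈ S) :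
    IsIrred ((Subgroup.closure S : Subgroup Pt) : Set Pt) := by
  obtain ⟨K, hKS, hK, hmax⟩ := exists_component (Subgroup.closure S)
  have : Subgroup.closure S = K :=
    le_antisymm (Subgroup.closure_le _ |>.2 (hmax S hS h1 Subgroup.subset_closure)) hKS
  rw [this]
  exact hK

omit [IsAlgClosed k] in
theorem isIrred_lcs (hirr : IsIrred (Set.univ : Set Pt)) (n : ℕ) :
    IsIrred ((Subgroup.lowerCentralSeries (⊤ : Subgroup Pt) n : Subgroup Pt) : Set Pt) := by
  induction n with
  | zero => simpa using hirr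
  | succ n ih =>
    rw [Subgroup.lowerCentralSeries_succ, Subgroup.commutator_def]
    refine isIrred_closure ?_ ⟨1, Subgroup.one_mem _, 1, trivial, commutatorElement_one_left 1⟩
    have hset : {g : Pt | ∃ g₁ ∈ Subgroup.lowerCentralSeries (⊤ : Subgroup Pt) n, ∃ g₂ ∈ (⊤ : Subgroup Pt), ⁅g₁, g₂⁆ = g} =
        Set.image2 (fun s t => ⁅s, t⁆) (Subgroup.lowerCentralSeries (⊤ : Subgroup Pt) n : Set Pt) Set.univ := by
      ext g
      simp [Set.mem_image2]
    rw [hset]
    refine ih.image2 hirr (fun t => ?_) (fun s => ?_)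
    · simp only [commutatorElement_def]
      exact ((isReg_id.mul (isReg_const t)).mul isReg_id.inv).mul (isReg_const t).inv
    · simp only [commutatorElement_def]
      exact (((isReg_const s).mul isReg_id).mul (isReg_const s).inv).mul isReg_id.inv

omit [IsAlgClosed k] in
theorem counit_ker_eq : RingHom.ker (Bialgebra.counitAlgHom k A) = RingHom.ker (1 : Pt).ofConv := by
  ext a
  simp [RingHom.mem_ker, AlgHom.convOne_apply]

omit [IsAlgClosed k] in
/-- A nontrivial subgroup of points has a vanishing ideal smaller than the augmentation ideal. -/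
theorem vI_ne_ker {K : Subgroup Pt} {g : Pt} (hg : g ∈ K) (hne : g ≠ 1) :
    vI (K : Set Pt) ≠ RingHom.ker (Bialgebra.counitAlgHom k A) := by
  intro h
  refine hne (WithConv.ofConv_injective (AlgHom.ext fun a => ?_))
  have ha : a - algebraMap k A (Coalgebra.counit (R := k) a) ∈ vI (K : Set Pt) := by
    rw [h, RingHom.mem_ker]
    simp
  have := mem_vI.1 ha g hg
  rw [map_sub, AlgHom.commutes, sub_eq_zero] at this
  rw [this, AlgHom.convOne_apply]

omit [IsAlgClosed k] in
/-- The kernel of a homomorphism of Hopf algebras is a Hopf ideal. -/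
theorem isHopfIdeal_ker {T : Type u} [CommRing T] [HopfAlgebra k T] (f : A →ₐc[k] T) :
    (RingHom.ker (f : A →ₐ[k] T)).IsHopfIdeal k := by
  let I := RingHom.ker (f : A →ₐ[k] T)
  refine @Ideal.IsHopfIdeal.mk _ _ _ _ _ I ⟨fun z hz => ?_, fun z hz => ?_⟩ fun z hz => ?_
  · have hz' : f z = 0 := hz
    rw [← CoalgHomClass.counit_comp_apply f z, hz', map_zero]
  · have hz' : f z = 0 := hz
    let ι := (I.restrictScalars k).liftQ (f : A →ₐ[k] T).toLinearMap (fun a ha => ha)
    have hι : Function.Injective ι := by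
      rw [← LinearMap.ker_eq_bot]
      exact Submodule.ker_liftQ_eq_bot _ _ _ fun a ha => ha
    have h := CoalgHomClass.map_comp_comul_apply f z
    rw [hz', map_zero] at h
    refine TensorProduct.map_injective_of_flat_flat ι ι hι hι ?_
    rw [map_zero]
    refine Eq.trans ?_ h
    induction Coalgebra.comul (R := k) z using TensorProduct.induction_on with
    | zero => simp
    | tmul a b =>
      simp [ι]
    | add s t hs ht => simp only [map_add, hs, ht]
  · have hz' : f z = 0 := hz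
    show f (HopfAlgebra.antipode k z) = 0
    exact (GrpSchLib.HopfGalois.antipode_bialgHom f z).symm.trans (by rw [hz', map_zero])

variable [Algebra.FiniteType k A]

/-- Only the identity vanishes on the augmentation ideal. -/
theorem dim_eq_height [IsDomain A] {n : ℕ} (hn : ringKrullDim A = n) :
    (RingHom.ker (Bialgebra.counitAlgHom k A)).height = n := by
  have hmax : (RingHom.ker (Bialgebra.counitAlgHom k A)).IsMaximal :=
    RingHom.ker_isMaximal_of_surjective _ fun c => ⟨algebraMap k A c, by simp⟩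
  let p : PrimeSpectrum A := ⟨_, hmax.isPrime⟩
  have h := VarDim.height_add_coheight_eq (k := k) n A hn p
  have hc : Order.coheight p = 0 := Order.coheight_eq_zero.2 fun q hq =>
    (hmax.eq_of_le q.isPrime.ne_top hq).ge
  rw [hc, add_zero] at h
  exact (PrimeSpectrum.height_eq_orderHeight p).trans h

/-- A nontrivial unipotent connected group has a one-dimensional connected subgroup. -/
theorem exists_dim_one (n : ℕ) : ∀ (B : Type u) [CommRing B] [HopfAlgebra k B] [Algebra.FiniteType k B] [IsDomain B],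
    ringKrullDim B = n → 1 ≤ n → HopfRep.IsUnipotent k B →
    ∃ (Q : Ideal B) (_ : Q.IsHopfIdeal k), Q.IsPrime ∧ ringKrullDim (B ⧸ Q) = 1 := by
  induction n using Nat.strong_induction_on with
  | _ n ih => ?_
  intro B _ _ _ _ hn h1 hU
  rcases eq_or_lt_of_le h1 with h | h
  · refine ⟨⊥, ?_, Ideal.isPrime_bot, ?_⟩
    · refine @Ideal.IsHopfIdeal.mk _ _ _ _ _ (⊥ : Ideal B) ⟨fun z hz => ?_, fun z hz => ?_⟩ fun z hz => ?_
      · rw [(Ideal.mem_bot.1 hz), map_zero]
      · rw [(Ideal.mem_bot.1 hz), map_zero, map_zero]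
      · rw [(Ideal.mem_bot.1 hz)]; simp
    · rw [ringKrullDim_eq_of_ringEquiv (RingEquiv.quotientBot B), hn, ← h]
      rfl
  haveI : IsNoetherianRing B := Algebra.FiniteType.isNoetherianRing k B
  let ε := RingHom.ker (Bialgebra.counitAlgHom k B)
  have hε : ε ≠ ⊥ := fun hb => by
    have := dim_eq_height (k := k) (A := B) hn
    rw [show RingHom.ker (Bialgebra.counitAlgHom k B) = ε from rfl, hb, Ideal.height_bot] at this
    exact absurd (Nat.cast_eq_zero (R := ℕ∞).1 this.symm) (by omega)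
  obtain ⟨x, hx0, hx⟩ : ∃ x : B, x ≠ 0 ∧
      Coalgebra.comul (R := k) x = x ⊗ₜ[k] (1 : B) + (1 : B) ⊗ₜ[k] x := by
    obtain ⟨a, ha⟩ := Submodule.exists_mem_ne_zero_of_ne_bot hε
    refine exists_primitive_of_isUnipotent hU a fun hmem => ha.2 ?_
    obtain ⟨r, rfl⟩ := Submodule.mem_span_singleton.1 hmem
    have := ha.1
    rw [show ε = RingHom.ker (Bialgebra.counitAlgHom k B) from rfl, RingHom.mem_ker, map_smul, map_one,
      smul_eq_mul, mul_one] at this
    rw [this, zero_smul]
  have hadd : IsAddFun (k := k) x := fun g g' => by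
    rw [AlgHom.convMul_apply, hx]
    simp
  let H : Subgroup (WithConv (B →ₐ[k] k)) :=
    { carrier := {g | g.ofConv x = 0}
      one_mem' := hadd.one_apply
      mul_mem' := fun {g g'} hg hg' => by
        show _ = _
        rw [hadd, show g.ofConv x = 0 from hg, show g'.ofConv x = 0 from hg', add_zero]
      inv_mem' := fun {g} hg => by
        show _ = _
        have := hadd g g⁻¹
        rw [mul_inv_cancel, hadd.one_apply, show g.ofConv x = 0 from hg, zero_add] at this
        exact this.symm }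
  have hεp : ε.IsPrime := RingHom.ker_isPrime _
  have hxε : x ∈ ε := by
    show Bialgebra.counitAlgHom k B x = 0
    have := hadd.one_apply (k := k)
    rwa [AlgHom.convOne_apply, Algebra.algebraMap_self_apply] at this
  obtain ⟨P, hP, hPε⟩ := Ideal.exists_minimalPrimes_le (J := ε) ((Ideal.span_singleton_le_iff_mem ε).2 hxε)
  haveI := hP.1.1
  have hPne : P ≠ ε := by
    intro he
    have h2 : ε.height ≤ 1 := by
      rw [← he]
      exact Ideal.height_le_one_of_isPrincipal_of_mem_minimalPrimes _ P hP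
    rw [show ε.height = n from dim_eq_height hn] at h2
    norm_cast at h2
    omega
  obtain ⟨K, hKH, hKi, hmax⟩ := exists_component H
  have hxP : x ∈ P := hP.1.2 (Ideal.mem_span_singleton_self x)
  have hPK : pts (k := k) P ⊆ (K : Set _) := hmax _ (isIrred_pts P)
    (fun a ha => by
      rw [AlgHom.convOne_apply, Algebra.algebraMap_self_apply]
      exact hPε ha)
    (fun g hg => hg x hxP)
  let Q := vI (K : Set (WithConv (B →ₐ[k] k)))
  haveI hQH : Q.IsHopfIdeal k := isHopfIdeal_vI K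
  haveI hQp : Q.IsPrime := isPrime_vI hKi ⟨1, K.one_mem⟩
  have hQε : Q ≠ ε := fun he => hPne (le_antisymm hPε (by
    rw [← vI_pts (k := k) hP.1.1.isRadical, ← he]
    exact vI_anti hPK))
  have hQlt : Q < ε := lt_of_le_of_ne (by
    intro a ha
    show Bialgebra.counitAlgHom k B a = 0
    have := mem_vI.1 ha 1 K.one_mem
    rwa [AlgHom.convOne_apply, Algebra.algebraMap_self_apply] at this) hQε
  have hxQ : x ∈ Q := mem_vI.2 fun g hg => hKH hg
  obtain ⟨m, hm, -⟩ := VarDim.exists_dim_eq_trdeg (k := k) (B ⧸ Q)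
  have hco := VarDim.height_add_coheight_eq (k := k) n B hn ⟨Q, hQp⟩
  have hcm : (Order.coheight (⟨Q, hQp⟩ : PrimeSpectrum B) : WithBot ℕ∞) = m := by
    rw [VarDim.coheight_eq_ringKrullDim_quotient, hm]
  have hcm' : Order.coheight (⟨Q, hQp⟩ : PrimeSpectrum B) = m := WithBot.coe_inj.1 hcm
  have hh1 : 1 ≤ Order.height (⟨Q, hQp⟩ : PrimeSpectrum B) := by
    rw [Order.one_le_iff_pos, Order.height_pos]
    intro hmin
    have hle := hmin (b := ⟨⊥, Ideal.isPrime_bot⟩) bot_le
    exact hx0 (Ideal.mem_bot.1 (hle hxQ))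
  have hm1 : 1 ≤ Order.coheight (⟨Q, hQp⟩ : PrimeSpectrum B) := by
    rw [Order.one_le_iff_pos, Order.coheight_pos]
    intro hmx
    exact hQlt.not_ge (hmx (b := ⟨ε, hεp⟩) hQlt.le)
  rw [hcm'] at hco hm1
  have hhn : Order.height (⟨Q, hQp⟩ : PrimeSpectrum B) ≠ ⊤ := fun he => by
    rw [he, top_add] at hco
    exact ENat.top_ne_natCast n hco
  obtain ⟨j, hj⟩ := ENat.ne_top_iff_exists.1 hhn
  rw [← hj] at hco hh1
  norm_cast at hco hh1 hm1
  obtain ⟨Q', _, hQ'p, hQ'd⟩ := ih m (by omega) (B ⧸ Q) hm hm1 (isUnipotent_quotient hU Q)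
  let π : B →ₐc[k] (B ⧸ Q) ⧸ Q' := (Bialgebra.Quotient.mkBialgHom Q').comp (Bialgebra.Quotient.mkBialgHom Q)
  have hπ : Function.Surjective π := Ideal.Quotient.mk_surjective.comp Ideal.Quotient.mk_surjective
  let Q'' : Ideal B := RingHom.ker (π : B →ₐ[k] (B ⧸ Q) ⧸ Q')
  refine ⟨Q'', isHopfIdeal_ker π, RingHom.ker_isPrime _, ?_⟩
  rw [ringKrullDim_eq_of_ringEquiv (Ideal.quotientKerAlgEquivOfSurjective
    (f := (π : B →ₐ[k] (B ⧸ Q) ⧸ Q')) hπ).toRingEquiv]
  exact hQ'd

/-- A nontrivial connected unipotent group has a central one-dimensional connected subgroup. -/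
theorem exists_central [IsDomain A] (hU : HopfRep.IsUnipotent k A)
    (hne : ∃ g : Pt, g ≠ 1) : ∃ (Q : Ideal A) (_ : Q.IsHopfIdeal k), Q.IsPrime ∧ ringKrullDim (A ⧸ Q) = 1 ∧
      SGA3.IsNormalHopfIdeal k A Q := by
  classical
  have hnil := isNilpotent_points (k := k) (A := A) hU
  have hex : ∃ n, Subgroup.lowerCentralSeries (⊤ : Subgroup Pt) n = ⊥ :=
    Subgroup.nilpotent_iff_lowerCentralSeries.1 hnil
  obtain ⟨m, hm⟩ : ∃ m, Nat.find hex = m + 1 := by
    refine Nat.exists_eq_succ_of_ne_zero fun h0 => ?_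
    have h := Nat.find_spec hex
    rw [h0, Subgroup.lowerCentralSeries_zero] at h
    obtain ⟨g, hg⟩ := hne
    exact hg (Subgroup.mem_bot.1 (h ▸ Subgroup.mem_top g))
  let C := Subgroup.lowerCentralSeries (⊤ : Subgroup Pt) m
  have hC : ⁅C, (⊤ : Subgroup Pt)⁆ = ⊥ := by
    have := Nat.find_spec hex
    rwa [hm, Subgroup.lowerCentralSeries_succ] at this
  have hC1 : C ≠ ⊥ := Nat.find_min hex (by omega)
  obtain ⟨g, hg, hg1⟩ : ∃ g ∈ C, g ≠ 1 := by
    by_contra hh
    push Not at hh
    exact hC1 ((Subgroup.eq_bot_iff_forall _).2 hh)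
  let P := vI (C : Set Pt)
  haveI hPp : P.IsPrime := isPrime_vI (isIrred_lcs isIrred_univ m) ⟨1, C.one_mem⟩
  haveI : P.IsHopfIdeal k := isHopfIdeal_vI C
  have hcent : ∀ x ∈ pts (k := k) P, ∀ t : Pt, ⁅x, t⁆ = 1 := by
    intro x hx t
    have hone : pts (k := k) (vI ({1} : Set Pt)) = {1} := by
      refine Set.Subset.antisymm (fun y hy => WithConv.ofConv_injective (AlgHom.ext fun a => ?_)) (subset_pts_vI _)
      have ha : a - algebraMap k A ((1 : Pt).ofConv a) ∈ vI ({1} : Set Pt) :=
        mem_vI.2 fun z hz => by rw [Set.mem_singleton_iff.1 hz]; simp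
      have := hy _ ha
      rwa [map_sub, AlgHom.commutes, Algebra.algebraMap_self_apply, sub_eq_zero] at this
    have hreg : IsReg (k := k) (A := A) fun x => ⁅x, t⁆ := by
      simp only [commutatorElement_def]
      exact ((isReg_id.mul (isReg_const t)).mul isReg_id.inv).mul (isReg_const t).inv
    have := mapsTo_cl (S := (C : Set Pt)) (T := {1}) hreg (fun y hy => by
      refine subset_pts_vI _ ?_
      have : ⁅y, t⁆ ∈ ⁅C, (⊤ : Subgroup Pt)⁆ := Subgroup.commutator_mem_commutator hy trivial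
      rwa [hC, Subgroup.mem_bot] at this) hx
    rwa [hone] at this
  obtain ⟨n, hn, -⟩ := VarDim.exists_dim_eq_trdeg (k := k) (A := A ⧸ P)
  have hn1 : 1 ≤ n := by
    by_contra h0
    obtain rfl : n = 0 := by omega
    have h2 := dim_eq_height (k := k) (A := A ⧸ P) hn
    rw [Nat.cast_zero, Ideal.height_eq_zero_iff_eq_bot] at h2
    apply vI_ne_ker hg hg1
    refine le_antisymm (fun a ha => ?_) fun a ha => ?_
    · have := mem_vI.1 ha 1 C.one_mem
      rwa [AlgHom.convOne_apply, Algebra.algebraMap_self_apply] at this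
    · refine Ideal.Quotient.eq_zero_iff_mem.1 (Ideal.mem_bot.1 ?_)
      rw [← h2, RingHom.mem_ker]
      exact ha
  obtain ⟨Q', _, hQ'p, hQ'd⟩ := exists_dim_one n (A ⧸ P) hn hn1 (isUnipotent_quotient hU P)
  let π : A →ₐc[k] (A ⧸ P) ⧸ Q' := (Bialgebra.Quotient.mkBialgHom Q').comp (Bialgebra.Quotient.mkBialgHom P)
  have hπ : Function.Surjective π := Ideal.Quotient.mk_surjective.comp Ideal.Quotient.mk_surjective
  let Q : Ideal A := RingHom.ker (π : A →ₐ[k] (A ⧸ P) ⧸ Q')
  have hPQ : P ≤ Q := fun a ha => by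
    show Ideal.Quotient.mk Q' (Ideal.Quotient.mk P a) = 0
    rw [Ideal.Quotient.eq_zero_iff_mem.2 ha, map_zero]
  haveI hQp : Q.IsPrime := RingHom.ker_isPrime _
  haveI hQH : Q.IsHopfIdeal k := isHopfIdeal_ker π
  refine ⟨Q, hQH, hQp, ?_, ?_⟩
  · rw [ringKrullDim_eq_of_ringEquiv (Ideal.quotientKerAlgEquivOfSurjective
      (f := (π : A →ₐ[k] (A ⧸ P) ⧸ Q')) hπ).toRingEquiv]
    exact hQ'd
  -- the universal pair commutes since the pairs of points do
  let iL : A →ₐ[k] A ⊗[k] (A ⧸ Q) := Algebra.TensorProduct.includeLeft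
  let iR : A →ₐ[k] A ⊗[k] (A ⧸ Q) := Algebra.TensorProduct.includeRight.comp (Ideal.Quotient.mkₐ k Q)
  have huniv : toConv iL * toConv iR = toConv iR * toConv iL := by
    refine WithConv.ofConv_injective (AlgHom.ext fun a => sub_eq_zero.1 ?_)
    refine Obs28.eq_zero_of_evl (fun g : Pt => g.ofConv) (fun b hb => eq_zero_of_points (k := k) (A := A) hb) _ fun g => ?_
    refine eq_zero_of_points (k := k) fun h => ?_
    let h' : Pt := toConv (h.ofConv.comp (Ideal.Quotient.mkₐ k Q))
    have hh' : h' ∈ pts (k := k) P := fun b hb => by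
      show h.ofConv (Ideal.Quotient.mk Q b) = 0
      rw [Ideal.Quotient.eq_zero_iff_mem.2 (hPQ hb), map_zero]
    let L : A ⊗[k] (A ⧸ Q) →ₐ[k] k := Algebra.TensorProduct.lift g.ofConv h.ofConv fun _ _ => Commute.all _ _
    have hev : ∀ w, h.ofConv (Obs28.evl g.ofConv w) = L w := fun w => by
      induction w using TensorProduct.induction_on with
      | zero => simp
      | tmul p q => simp [L]
      | add p q hp hq => simp only [map_add, hp, hq]
    rw [hev, map_sub, sub_eq_zero]
    have e1 : L.comp iL = g.ofConv := AlgHom.ext fun b => by simp [L, iL]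
    have e2 : L.comp iR = h'.ofConv := AlgHom.ext fun b => by simp [L, iR, h']
    calc L ((toConv iL * toConv iR).ofConv a)
        = (toConv (L.comp iL) * toConv (L.comp iR)).ofConv a :=
          congrArg (fun f : WithConv (A →ₐ[k] k) => f.ofConv a) (map_mul (DynLib41.post L) (toConv iL) (toConv iR))
      _ = (g * h').ofConv a := by rw [e1, e2]
      _ = (h' * g).ofConv a := by
          rw [show g * h' = h' * g from (commutatorElement_eq_one_iff_mul_comm.1 (hcent h' hh' g)).symm]
      _ = (toConv (L.comp iR) * toConv (L.comp iL)).ofConv a := by rw [e1, e2]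
      _ = L ((toConv iR * toConv iL).ofConv a) :=
          (congrArg (fun f : WithConv (A →ₐ[k] k) => f.ofConv a) (map_mul (DynLib41.post L) (toConv iR) (toConv iL))).symm
  intro R _ _ g h hh a ha
  let φ : A ⊗[k] (A ⧸ Q) →ₐ[k] R :=
    Algebra.TensorProduct.lift g (Ideal.Quotient.liftₐ Q h hh) fun _ _ => Commute.all _ _
  have e1 : φ.comp iL = g := AlgHom.ext fun b => by simp [φ, iL]
  have e2 : φ.comp iR = h := AlgHom.ext fun b => by
    simp [φ, iR]
  have hc : toConv g * toConv h = toConv h * toConv g := by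
    have := congrArg (DynLib41.post φ) huniv
    rw [map_mul, map_mul] at this
    rw [← e1, ← e2]
    exact this
  have hconv : Dyn.conv3 k A g h (g.comp (HopfAlgebra.antipodeAlgHom k A)) =
      (toConv g * toConv h * (toConv g)⁻¹).ofConv := (HopfPtLib.conv3_eq _ _ _).trans rfl
  rw [hconv, hc, mul_assoc, mul_inv_cancel, _root_.mul_one]
  exact hh a ha

end Groth.Agent.AlgGrpQ.Ratl
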