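import Groth.Agent.AlgGrpQ.Ratl.Central
import Groth.Agent.AlgGrpQ.Ratl.Borel
import Groth.Agent.DynLib41.SmoothCell
import Groth.Agent.DynLib41.UnipotentU
import Groth.Agent.DynLib41.Connected
import Groth.Agent.AGFRoot.CentIdeal

/-!
# Connected linear groups are rational
-/

set_option autoImplicit false
set_option backward.isDefEq.respectTransparency false
set_option linter.style.haveILetI false
set_option maxSynthPendingDepth 5

universe u

open CategoryTheory AlgebraicGeometry MonoidalCategory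
open WithConv TensorProduct
open scoped Groth.Agent.DynLib41 LaurentPolynomial

namespace Groth.Agent.AlgGrpQ.Ratl

open GrpSchLib.AffineHopf AGFRoot

variable {k : Type u} [Field k]

/-- The chart of a localisation. -/
theorem Chart.exists_refine {C : Type u} [CommRing C] [Algebra k C] [IsDomain C] (h : Chart k C) {c : C} (hc : c ≠ 0) :
    ∃ (σ : Type u) (_ : Finite σ) (T : Type u) (_ : CommRing T) (_ : Algebra k T) (_ : IsDomain T)
      (m : Localization.Away c →ₐ[k] T) (i : MvPolynomial σ k →ₐ[k] T), Std m ∧ Std i := by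
  obtain ⟨σ, hσ, T, _, _, _, j, i, hj, hi⟩ := h
  have hc' : j c ≠ 0 := fun e => hc (hj.injective (e.trans (map_zero j).symm))
  let T' := Localization.Away (j c)
  haveI := isDomain_away hc'
  let l := IsScalarTower.toAlgHom k T T'
  have hu : IsUnit ((l.comp j) c) := IsLocalization.Away.algebraMap_isUnit (j c)
  let m : Localization.Away c →ₐ[k] T' := IsLocalization.liftAlgHom (M := Submonoid.powers c) (f := l.comp j)
    fun y => by
      obtain ⟨_, n, rfl⟩ := y
      show IsUnit ((l.comp j) (c ^ n))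
      rw [map_pow]
      exact hu.pow n
  refine ⟨σ, hσ, T', inferInstance, inferInstance, inferInstance, m, l.comp i, ?_, (std_toLocalization (j c)).comp hi⟩
  letI := j.toRingHom.toAlgebra
  haveI hjs : Algebra.IsStandardOpenImmersion C T := hj
  letI := m.toRingHom.toAlgebra
  haveI : IsScalarTower C (Localization.Away c) T' := IsScalarTower.of_algebraMap_eq fun x =>
    (IsLocalization.lift_eq _ x).symm
  haveI : IsLocalization (Algebra.algebraMapSubmonoid T (Submonoid.powers c)) T' := by
    rw [show Algebra.algebraMapSubmonoid T (Submonoid.powers c) = Submonoid.powers (j c) from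
      Submonoid.map_powers _ c]
    exact inferInstanceAs (IsLocalization.Away (j c) T')
  haveI : Algebra.IsPushout C T (Localization.Away c) T' :=
    Algebra.isPushout_of_isLocalization (Submonoid.powers c) (Localization.Away c) T T'
  exact Algebra.IsStandardOpenImmersion.of_isPushout C T (Localization.Away c) T'

/-- A ring map inducing an open immersion becomes bijective on a standard open. -/
theorem exists_std_of_isOpenImmersion {A C : Type u} [CommRing A] [Algebra k A] [IsDomain A] [CommRing C] [Algebra k C]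
    [Nontrivial C] (φ : A →ₐ[k] C) [IsOpenImmersion (Spec.map (CommRingCat.ofHom φ.toRingHom))] :
    ∃ a : A, φ a ≠ 0 ∧ Std ((IsScalarTower.toAlgHom k C (Localization.Away (φ a))).comp φ) := by
  let f : Spec (CommRingCat.of C) ⟶ Spec (CommRingCat.of A) := Spec.map (CommRingCat.ofHom φ.toRingHom)
  haveI : IsOpenImmersion f := ‹_›
  haveI : Nonempty (Spec (CommRingCat.of C)) := inferInstanceAs (Nonempty (PrimeSpectrum C))
  obtain ⟨_, ⟨a, rfl⟩, hmem, hle⟩ := PrimeSpectrum.isTopologicalBasis_basic_opens.exists_subset_of_mem_open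
    (show f (Classical.arbitrary _) ∈ Set.range f from ⟨_, rfl⟩) f.isOpenEmbedding.isOpen_range
  obtain ⟨z, hz⟩ := hle hmem
  have hza : φ a ∉ (z : PrimeSpectrum C).asIdeal := by
    have : f z ∈ (PrimeSpectrum.basicOpen a : Set (PrimeSpectrum A)) := hz ▸ hmem
    exact this
  refine ⟨a, fun h0 => hza (h0 ▸ Ideal.zero_mem _), ?_⟩
  let Ca := Localization.Away (φ a)
  let Aa := Localization.Away a
  let g : A →ₐ[k] Ca := (IsScalarTower.toAlgHom k C Ca).comp φ
  let ψ : Aa →ₐ[k] Ca := IsLocalization.liftAlgHom (M := Submonoid.powers a) (f := g) fun y => by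
    obtain ⟨_, n, rfl⟩ := y
    show IsUnit (g (a ^ n))
    rw [map_pow]
    exact (IsLocalization.Away.algebraMap_isUnit (φ a)).pow n
  have hψ : ψ.comp (IsScalarTower.toAlgHom k A Aa) = g := AlgHom.ext fun x => IsLocalization.lift_eq _ x
  let iC : Spec (CommRingCat.of Ca) ⟶ Spec (CommRingCat.of C) := Spec.map (CommRingCat.ofHom (algebraMap C Ca))
  let iA : Spec (CommRingCat.of Aa) ⟶ Spec (CommRingCat.of A) := Spec.map (CommRingCat.ofHom (algebraMap A Aa))
  let p : Spec (CommRingCat.of Ca) ⟶ Spec (CommRingCat.of Aa) := Spec.map (CommRingCat.ofHom ψ.toRingHom)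
  haveI : IsOpenImmersion iC := IsOpenImmersion.of_isLocalization (S := Ca) (φ a)
  haveI : IsOpenImmersion iA := IsOpenImmersion.of_isLocalization (S := Aa) a
  have hcomm : p ≫ iA = iC ≫ f := by
    show Spec.map _ ≫ Spec.map _ = Spec.map _ ≫ Spec.map _
    rw [← Spec.map_comp, ← Spec.map_comp]
    congr 1
    exact CommRingCat.hom_ext (congrArg AlgHom.toRingHom hψ)
  haveI : IsOpenImmersion (p ≫ iA) := hcomm ▸ inferInstance
  haveI : IsOpenImmersion p := IsOpenImmersion.of_comp p iA
  haveI : Surjective p := ⟨fun y => by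
    have hy : iA y ∈ (PrimeSpectrum.basicOpen a : Set (PrimeSpectrum A)) := by
      rw [← PrimeSpectrum.localization_away_comap_range Aa a]
      exact ⟨y, rfl⟩
    obtain ⟨w, hw⟩ := hle hy
    have hw' : (w : PrimeSpectrum C) ∈ (PrimeSpectrum.basicOpen (φ a) : Set (PrimeSpectrum C)) := by
      have : f w ∈ (PrimeSpectrum.basicOpen a : Set (PrimeSpectrum A)) := hw ▸ hy
      exact this
    rw [← PrimeSpectrum.localization_away_comap_range Ca (φ a)] at hw'
    obtain ⟨v, hv⟩ := hw'
    refine ⟨v, iA.isOpenEmbedding.injective ?_⟩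
    show (p ≫ iA) v = _
    rw [hcomm]
    show f (iC v) = _
    rw [← hw]
    exact congrArg f hv⟩
  haveI : IsIso p := (isIso_iff_isOpenImmersion_and_surjective p).mpr ⟨inferInstance, inferInstance⟩
  haveI : IsIso (CommRingCat.ofHom ψ.toRingHom) := by
    haveI : IsIso (Scheme.Spec.rightOp.map (CommRingCat.ofHom ψ.toRingHom)) :=
      inferInstanceAs (IsIso (Spec.map (CommRingCat.ofHom ψ.toRingHom)).op)
    exact isIso_of_reflects_iso _ Scheme.Spec.rightOp
  have hbij : Function.Bijective ψ := ConcreteCategory.bijective_of_isIso (CommRingCat.ofHom ψ.toRingHom)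
  show Std g
  rw [← hψ]
  exact (std_of_bijective hbij).comp (std_toLocalization a)

variable [IsAlgClosed k]

theorem isDomain_of_smooth (A : Type u) [CommRing A] [HopfAlgebra k A] [Algebra.FiniteType k A] [Algebra.Smooth k A]
    (hconn : ∀ e : A, IsIdempotentElem e → e = 0 ∨ e = 1) : IsDomain A := by
  haveI hsm : Smooth (sp k A).hom := (HasRingHomProperty.Spec_iff (P := @Smooth)).mpr
    (RingHom.smooth_algebraMap.mpr ‹Algebra.Smooth k A›)
  haveI : Nontrivial A := (Bialgebra.counitAlgHom k A).toRingHom.domain_nontrivial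
  haveI : ConnectedSpace (sp k A).left := MultTypeLib.connectedSpace_of_idem hconn
  exact (SolvSch.isDomain_coords (Iso.refl (sp k A))).2

/-- A group all of whose one-parameter subgroups have attracting subgroup everything has central ones. -/
theorem commute_of_idealExists {A : Type u} [CommRing A] [HopfAlgebra k A]
    (h : ∀ lam : A →ₐc[k] k[T;T⁻¹], DynLib41.idealExists lam = ⊥)
    (lam : A →ₐc[k] k[T;T⁻¹]) (f : k[T;T⁻¹] →ₐ[k] k) (g : WithConv (A →ₐ[k] k)) :
    Commute (toConv (f.comp (lam : A →ₐ[k] k[T;T⁻¹]))) g := by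
  obtain ⟨lamNeg, hneg⟩ := DynLib41.exists_lamNeg lam
  have hzero : ∀ (mu : A →ₐc[k] k[T;T⁻¹]) (a : A), ∀ n < 0, DynLib41.coef mu n a = 0 := fun mu a n hn => by
    have : DynLib41.coef mu n a ∈ DynLib41.idealExists mu := Ideal.subset_span ⟨a, n, hn, rfl⟩
    rwa [h mu, Ideal.mem_bot] at this
  have hc := (Cent.centIdeal_iff lam g).1 ((Cent.centIdeal_eq_zero_iff lam g.ofConv).2 fun a n hn => by
    rcases lt_or_gt_of_ne hn with hn | hn
    · rw [hzero lam a n hn, map_zero]
    · have := hzero lamNeg a (-n) (by omega)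
      rw [DynLib41.coef_neg lam lamNeg hneg, neg_neg] at this
      rw [this, map_zero])
  have h2 := hc.map (DynLib41.post f)
  rw [DynLib41.post_post] at h2
  have e1 : DynLib41.post f (DynLib41.Lam lam k) = toConv (f.comp (lam : A →ₐ[k] k[T;T⁻¹])) := by
    refine WithConv.ofConv_injective (AlgHom.ext fun a => ?_)
    simp [DynLib41.Lam, Dyn.lamR]
  have e2 : DynLib41.post (f.comp (DynLib41.const k)) g = g :=
    WithConv.ofConv_injective (AlgHom.ext fun a => by
      show f (algebraMap k k[T;T⁻¹] (g.ofConv a)) = _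
      exact f.commutes _)
  rwa [e1, e2] at h2

theorem chart_of_central {A : Type u} [CommRing A] [HopfAlgebra k A] [Algebra.FiniteType k A] [Algebra.Smooth k A]
    [IsDomain A] (h : ∀ lam : A →ₐc[k] k[T;T⁻¹], DynLib41.idealExists lam = ⊥) : Chart k A := by
  obtain ⟨C, _, _, _, _, π, hsol, hT, hconst⟩ := exists_solvable_const (k := k) A
  haveI := hsol
  exact chart_of_isTrigonalizable (isTrigonalizable_of_core hT π hconst (commute_of_idealExists h))

theorem chart_of_smooth (A : Type u) [CommRing A] [HopfAlgebra k A] [Algebra.FiniteType k A] [Algebra.Smooth k A]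
    [IsDomain A] : Chart k A := by
  classical
  suffices hind : ∀ (I : Ideal A) (B : Type u) [CommRing B] [HopfAlgebra k B] [Algebra.FiniteType k B]
      [Algebra.Smooth k B] [IsDomain B] (ψ : A →ₐ[k] B), Function.Surjective ψ → RingHom.ker ψ = I → Chart k B from
    hind _ A (AlgHom.id k A) Function.surjective_id rfl
  haveI : IsNoetherianRing A := Algebra.FiniteType.isNoetherianRing k A
  intro I
  induction I using WellFoundedGT.induction with
  | ind I ih => ?_
  intro B _ _ _ _ _ ψ hψ hI
  by_cases hc : ∀ lam : B →ₐc[k] k[T;T⁻¹], DynLib41.idealExists lam = ⊥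
  · exact chart_of_central hc
  push Not at hc
  obtain ⟨lam, hlam⟩ := hc
  obtain ⟨lamNeg, hneg⟩ := DynLib41.exists_lamNeg lam
  let Jp := DynLib41.idealExists lam
  let Jm := DynLib41.idealIsOne lamNeg
  haveI : Jp.IsHopfIdeal k := DynLib41.isHopfIdeal_idealExists lam
  haveI : Jm.IsHopfIdeal k := DynLib41.isHopfIdeal_idealIsOne lamNeg
  have hp := DynLib41.represents_idealExists lam
  have hm := DynLib41.represents_idealIsOne lamNeg
  haveI := DynLib41.smooth_quotient_exists hp
  haveI := DynLib41.smooth_quotient_isOne hm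
  have hconnB : ∀ e : B, IsIdempotentElem e → e = 0 ∨ e = 1 := fun e he => IsIdempotentElem.iff_eq_zero_or_one.1 he
  haveI : IsDomain (B ⧸ Jp) := isDomain_of_smooth (k := k) (B ⧸ Jp) (DynLib41.isIdempotentElem_quotient_exists lam hp hconnB)
  haveI : IsDomain (B ⧸ Jm) := isDomain_of_smooth (k := k) (B ⧸ Jm) (DynLib41.isIdempotentElem_quotient_isOne lamNeg hm)
  have hP : Chart k (B ⧸ Jp) := by
    refine ih (RingHom.ker ((Ideal.Quotient.mkₐ k Jp).comp ψ)) ?_ (B ⧸ Jp) ((Ideal.Quotient.mkₐ k Jp).comp ψ)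
      ((Ideal.Quotient.mkₐ_surjective k Jp).comp hψ) rfl
    obtain ⟨x, hx, hx0⟩ := (Submodule.ne_bot_iff _).1 hlam
    obtain ⟨a, rfl⟩ := hψ x
    refine lt_of_le_not_ge (fun z hz => ?_) fun hle => hx0 ?_
    · rw [← hI] at hz
      show Ideal.Quotient.mkₐ k Jp (ψ z) = 0
      rw [show ψ z = 0 from hz, map_zero]
    · have : a ∈ RingHom.ker ((Ideal.Quotient.mkₐ k Jp).comp ψ) := Ideal.Quotient.eq_zero_iff_mem.2 hx
      have := hle this
      rwa [← hI] at this
  obtain ⟨d, w, M, hwm⟩ := DynLib41.exists_isWeightMatrix lamNeg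
  obtain ⟨n, -, hn⟩ := VarDim.exists_dim_eq_trdeg (k := k) (A := B ⧸ Jm)
  have hU : Chart k (B ⧸ Jm) := chart_of_isUnipotent n (B ⧸ Jm) hn (DynLib41.isUnipotent_quotient hwm Jm hm)
  obtain ⟨σ, hσ, T, _, _, _, j, i, hj, hi⟩ := hU.tensor hP
  haveI : Nontrivial ((B ⧸ Jm) ⊗[k] (B ⧸ Jp)) := j.toRingHom.domain_nontrivial
  haveI := DynLib41.isOpenImmersion_of_smooth hneg hp hm
  obtain ⟨a, ha, hstd⟩ := exists_std_of_isOpenImmersion (DynLib41.cellMap (k := k) Jm Jp)
  haveI : IsDomain ((B ⧸ Jm) ⊗[k] (B ⧸ Jp)) :=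
    GrpSchLib.isDomain_tensor_of_isAlgClosed
  obtain ⟨σ', hσ', T', _, _, _, m, i', hm', hi'⟩ := Chart.exists_refine (hU.tensor hP) ha
  exact ⟨σ', hσ', T', inferInstance, inferInstance, inferInstance, m.comp _, i', hm'.comp hstd, hi'⟩

end Groth.Agent.AlgGrpQ.Ratl
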