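import Mathlib.Algebra.Polynomial.AlgebraMap
import Mathlib.Algebra.Polynomial.Coeff
import Mathlib.RingTheory.Polynomial.Basic
import Mathlib.Algebra.Polynomial.Degree.Lemmas
import Mathlib.Data.Nat.Choose.Sum
import Mathlib.RingTheory.Adjoin.Basic
import Mathlib.Tactic.LinearCombination

/-!
# A slice for a free action of the additive group on a domain
-/

set_option autoImplicit false

universe u

open Polynomial

namespace Groth.Agent.AlgGrpQ.Ratl

variable {k : Type u} [Field k] {A : Type u} [CommRing A] [IsDomain A] [Algebra k A]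

/-- The invariant elements. -/
noncomputable def invA (c : A →ₐ[k] A[X]) : Subalgebra k A :=
  AlgHom.equalizer c (IsScalarTower.toAlgHom k A A[X])

variable (c : A →ₐ[k] A[X]) (h0 : ∀ a, (c a).coeff 0 = a)
  (h2 : ∀ a i j, (c ((c a).coeff j)).coeff i = (i + j).choose j • (c a).coeff (i + j))

omit [IsDomain A] in
theorem mem_invA {a : A} : a ∈ invA c ↔ c a = C a := Iff.rfl

include h0 in
omit [IsDomain A] in
theorem mem_invA_of_natDegree {a : A} (h : (c a).natDegree = 0) : a ∈ invA c := by
  rw [mem_invA, eq_C_of_natDegree_eq_zero h, h0]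

include h0 h2 in
omit [IsDomain A] in
theorem natDegree_coeff_le (a : A) (j : ℕ) : (c ((c a).coeff j)).natDegree ≤ (c a).natDegree - j := by
  refine natDegree_le_iff_coeff_eq_zero.2 fun i hi => ?_
  rw [h2, coeff_eq_zero_of_natDegree_lt (by omega), smul_zero]

include h0 h2 in
/-- There is a slice. -/
theorem exists_slice (hX : (X : A[X]) ∈ Algebra.adjoin A (Set.range c)) :
    ∃ (a b : A), b ≠ 0 ∧ b ∈ invA c ∧ c a = C a + C b * X ∧
      (∀ x : A, ∃ (N : ℕ) (p : (invA c)[X]), b ^ N * x = (p.map (invA c).val.toRingHom).eval a) ∧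
      ∀ p : (invA c)[X], (p.map (invA c).val.toRingHom).eval a = 0 → p = 0 := by
  classical
  have hex : ∃ d, 0 < d ∧ ∃ a, (c a).natDegree = d := by
    by_contra hne
    push Not at hne
    have hle : Algebra.adjoin A (Set.range c) ≤ ⊥ := by
      refine Algebra.adjoin_le ?_
      rintro _ ⟨a, rfl⟩
      exact ⟨a, ((mem_invA c).1 (mem_invA_of_natDegree c h0 (Nat.eq_zero_of_not_pos fun h => hne _ h a rfl))).symm⟩
    obtain ⟨r, hr⟩ := hle hX
    have := congrArg natDegree hr
    simp at this
  obtain ⟨hd0, a, ha⟩ := Nat.find_spec hex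
  set d := Nat.find hex with hddef
  have hsmall : ∀ y : A, (c y).natDegree < d → y ∈ invA c := fun y hy =>
    mem_invA_of_natDegree c h0 (Nat.eq_zero_of_not_pos fun h => Nat.find_min hex hy ⟨h, y, rfl⟩)
  set b := (c a).leadingCoeff with hbdef
  have hb : b ≠ 0 := leadingCoeff_ne_zero.2 fun h => by rw [h, natDegree_zero] at ha; omega
  have hcoef : ∀ j, 0 < j → (c a).coeff j ∈ invA c := fun j hj =>
    hsmall _ ((natDegree_coeff_le c h0 h2 a j).trans_lt (by omega))
  have hbinv : b ∈ invA c := by rw [hbdef, leadingCoeff, ha]; exact hcoef d hd0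
  have hchoose : ∀ j, 0 < j → j < d → (d.choose j : A) = 0 := fun j hj hjd => by
    have h := h2 a (d - j) j
    rw [(mem_invA c).1 (hcoef j hj), coeff_C, if_neg (by omega), Nat.sub_add_cancel hjd.le, nsmul_eq_mul,
      ← ha, coeff_natDegree, ha] at h
    exact (mul_eq_zero.1 h.symm).resolve_right hb
  have hfresh : (1 + X : A[X]) ^ d = 1 + X ^ d := by
    rw [add_comm, add_comm (1 : A[X])]
    ext m
    rw [coeff_X_add_one_pow, coeff_add, coeff_X_pow, coeff_one]
    rcases eq_or_ne m 0 with rfl | hm0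
    · simp [hd0.ne]
    rcases lt_trichotomy m d with h | h | h
    · simp [hchoose m (Nat.pos_of_ne_zero hm0) h, h.ne, hm0]
    · simp [h, hd0.ne']
    · simp [Nat.choose_eq_zero_of_lt h, h.ne', hm0]
  have hlucas : ∀ q r, r < d → ((q * d + r).choose r : A) = 1 := by
    intro q r hr
    have h1 : ((1 + X : A[X]) ^ (q * d + r)).coeff r = 1 := by
      rw [pow_add, mul_comm q d, pow_mul, hfresh]
      obtain ⟨g, hg⟩ : ∃ g : A[X], (1 + X ^ d : A[X]) ^ q = 1 + X ^ d * g := by
        obtain ⟨g, hg⟩ := sub_dvd_pow_sub_pow (1 + X ^ d : A[X]) 1 q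
        exact ⟨g, by linear_combination hg + one_pow (M := A[X]) q⟩
      rw [hg, add_mul, one_mul, mul_assoc, coeff_add, coeff_X_pow_mul', if_neg (by omega), add_zero,
        coeff_one_add_X_pow, Nat.choose_self, Nat.cast_one]
    rwa [coeff_one_add_X_pow] at h1
  let P : A → Prop := fun x => ∃ (N : ℕ) (p : (invA c)[X]), b ^ N * x = (p.map (invA c).val.toRingHom).eval a
  have hmain : ∀ n x, (c x).natDegree ≤ n → P x := by
    intro n
    induction n using Nat.strong_induction_on with
    | _ n ih => ?_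
    intro x hx
    rcases Nat.eq_zero_or_pos (c x).natDegree with h | h
    · exact ⟨0, C ⟨x, mem_invA_of_natDegree c h0 h⟩, by simp⟩
    set m := (c x).natDegree with hm
    set b' := (c x).leadingCoeff with hb'def
    have hb'0 : b' ≠ 0 := leadingCoeff_ne_zero.2 fun h0' => by rw [h0', natDegree_zero] at hm; omega
    have hb' : b' ∈ invA c := by
      refine hsmall _ ((natDegree_coeff_le c h0 h2 x m).trans_lt ?_)
      omega
    obtain ⟨q, r, hr, hqr⟩ : ∃ q r, r < d ∧ m = q * d + r :=
      ⟨m / d, m % d, Nat.mod_lt _ hd0, (by rw [mul_comm]; exact (Nat.div_add_mod m d).symm)⟩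
    have hr0 : r = 0 := by
      by_contra hne
      have hle := natDegree_coeff_le c h0 h2 x (q * d)
      rw [← hm] at hle
      have hinv := (mem_invA c).1 (hsmall _ (hle.trans_lt (by omega)))
      have h := h2 x r (q * d)
      rw [hinv, coeff_C, if_neg hne, add_comm r, ← hqr, nsmul_eq_mul, coeff_natDegree, hqr,
        Nat.choose_symm_add, hlucas q r hr, one_mul] at h
      exact hb'0 h.symm
    subst hr0
    rw [add_zero] at hqr
    let x' := b ^ q * x - b' * a ^ q
    have hx' : (c x').natDegree < m := by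
      have e : c x' = C (b ^ q) * c x - C b' * (c a) ^ q := by
        rw [map_sub, map_mul, map_mul, map_pow, map_pow, (mem_invA c).1 hbinv, (mem_invA c).1 hb', map_pow]
      rw [e]
      have hl : ((c a) ^ q).leadingCoeff = b ^ q := leadingCoeff_pow _ _
      have hd' : ((c a) ^ q).natDegree = m := by rw [natDegree_pow, ha, hqr]
      refine lt_of_le_of_ne ((natDegree_sub_le _ _).trans (max_le ((natDegree_C_mul_le _ _).trans hm.ge)
        ((natDegree_C_mul_le _ _).trans hd'.le))) fun heq => ?_
      have h0' : (C (b ^ q) * c x - C b' * (c a) ^ q).coeff m = 0 := by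
        rw [coeff_sub, coeff_C_mul, coeff_C_mul, hm, coeff_natDegree, ← hm, ← hd', coeff_natDegree, hl, ← hb'def]
        ring
      rw [← heq, coeff_natDegree, leadingCoeff_eq_zero] at h0'
      rw [h0', natDegree_zero] at heq
      omega
    obtain ⟨N, p, hp⟩ := ih (c x').natDegree (by omega) x' le_rfl
    refine ⟨N + q, p + C (⟨b, hbinv⟩ ^ N * ⟨b', hb'⟩) * X ^ q, ?_⟩
    rw [Polynomial.map_add, eval_add, ← hp]
    simp only [x', Polynomial.map_mul, map_C, Polynomial.map_pow, map_X, eval_mul, eval_C, eval_pow, eval_X]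
    simp
    ring
  have hd1 : d = 1 := by
    let f : A[X] := c a - C a
    let Sg : Subalgebra A A[X] :=
      { carrier := {w | ∃ (N : ℕ) (p : A[X]), C (b ^ N) * w = p.comp f}
        mul_mem' := fun {v w} ⟨N, p, hp⟩ ⟨M, p', hp'⟩ => ⟨N + M, p * p', by
          rw [mul_comp, ← hp, ← hp', pow_add, C_mul]; ring⟩
        add_mem' := fun {v w} ⟨N, p, hp⟩ ⟨M, p', hp'⟩ => ⟨N + M, C (b ^ M) * p + C (b ^ N) * p', by
          rw [add_comp, mul_comp, mul_comp, C_comp, C_comp, ← hp, ← hp', pow_add, C_mul]; ring⟩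
        algebraMap_mem' := fun r => ⟨0, C r, by simp⟩ }
    have hle : Algebra.adjoin A (Set.range c) ≤ Sg := by
      refine Algebra.adjoin_le ?_
      rintro _ ⟨x, rfl⟩
      obtain ⟨N, p, hp⟩ := hmain _ x le_rfl
      refine ⟨N, (p.map (invA c).val.toRingHom).comp (C a + X), ?_⟩
      have e1 : C (b ^ N) * c x = c (b ^ N * x) := by
        rw [map_mul, map_pow, map_pow, (mem_invA c).1 hbinv]
      rw [e1, hp, comp_assoc, add_comp, C_comp, X_comp, show C a + f = c a by simp [f]]
      rw [eval_map, comp, eval₂_map, ← AlgHom.coe_toRingHom c, hom_eval₂]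
      congr 1
      refine RingHom.ext fun r => ?_
      exact (mem_invA c).1 r.2
    obtain ⟨N, p, hp⟩ := hle hX
    have h1 := congrArg natDegree hp
    have hf : f.natDegree = d := by rw [show f = c a - C a from rfl, natDegree_sub_C, ha]
    rw [natDegree_C_mul (pow_ne_zero _ hb), natDegree_X, natDegree_comp, hf] at h1
    exact Nat.eq_one_of_dvd_one ⟨p.natDegree, by rw [mul_comm]; exact h1⟩
  have hca : c a = C a + C b * X := by
    conv_lhs => rw [eq_X_add_C_of_natDegree_le_one (ha.trans hd1).le]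
    rw [h0, show (c a).coeff 1 = b by rw [hbdef, leadingCoeff, ha, hd1]]
    ring
  refine ⟨a, b, hb, hbinv, hca, fun x => hmain _ x le_rfl, fun p hp => ?_⟩
  have h := congrArg c hp
  rw [map_zero, eval_map, ← AlgHom.coe_toRingHom c, hom_eval₂] at h
  have hcr : (c : A →+* A[X]).comp (invA c).val.toRingHom = C.comp (invA c).val.toRingHom :=
    RingHom.ext fun r => (mem_invA c).1 r.2
  rw [hcr, ← eval₂_map, AlgHom.coe_toRingHom, hca] at h
  rw [← comp] at h
  by_contra hp0
  have hmp : p.map (invA c).val.toRingHom ≠ 0 :=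
    (Polynomial.map_ne_zero_iff Subtype.val_injective).2 hp0
  rcases comp_eq_zero_iff.1 h with h' | ⟨-, h'⟩
  · exact hmp h'
  · have := congrArg (fun q : A[X] => q.coeff 1) h'
    simp [coeff_C] at this
    exact hb this

end Groth.Agent.AlgGrpQ.Ratl
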