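import Groth.Agent.AlgGrpQ.Ratl.Chart
import Mathlib.Algebra.MonoidAlgebra.Basic
import Mathlib.Algebra.MonoidAlgebra.NoZeroDivisors
import Mathlib.Algebra.Group.UniqueProds.VectorSpace
import Mathlib.LinearAlgebra.FreeModule.Finite.Basic
import Mathlib.Algebra.MonoidAlgebra.Module
import Mathlib.GroupTheory.Finiteness
import Mathlib.LinearAlgebra.FreeModule.PID
import Mathlib.RingTheory.Finiteness.Basic

/-!
# The group algebra of a free abelian group of finite rank has a chart
-/

set_option autoImplicit false
set_option linter.style.haveILetI false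

universe u

namespace Groth.Agent.AlgGrpQ.Ratl

variable {k : Type u} [Field k]

/-- An exponent vector as a group element. -/
def emb {σ : Type u} (v : σ →₀ ℕ) : Multiplicative (σ → ℤ) := Multiplicative.ofAdd fun s => (v s : ℤ)

theorem emb_injective {σ : Type u} : Function.Injective (emb (σ := σ)) := fun v w h => Finsupp.ext fun s => by
  have := congrFun (congrArg Multiplicative.toAdd h) s
  simpa [emb] using this

theorem emb_add {σ : Type u} (v w : σ →₀ ℕ) : emb (v + w) = emb v * emb w := by
  apply Multiplicative.toAdd.injective
  funext s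
  simp [emb]

theorem chart_pi (σ : Type u) [Finite σ] : Chart k (MonoidAlgebra k (Multiplicative (σ → ℤ))) := by
  classical
  haveI := Fintype.ofFinite σ
  let i : MvPolynomial σ k →ₐ[k] MonoidAlgebra k (Multiplicative (σ → ℤ)) :=
    MvPolynomial.aeval fun s => MonoidAlgebra.single (emb (Finsupp.single s 1)) 1
  have hmon : ∀ v : σ →₀ ℕ, i (MvPolynomial.monomial v 1) = MonoidAlgebra.single (emb v) 1 := by
    intro v
    induction v using Finsupp.induction_linear with
    | zero =>
      rw [MvPolynomial.monomial_zero', MvPolynomial.C_1, map_one, MonoidAlgebra.one_def]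
      congr 1
    | add v w hv hw =>
      rw [show (MvPolynomial.monomial (v + w) (1 : k)) = MvPolynomial.monomial v 1 * MvPolynomial.monomial w 1 by
        rw [MvPolynomial.monomial_mul, _root_.mul_one], map_mul, hv, hw, MonoidAlgebra.single_mul_single,
        _root_.mul_one, emb_add]
    | single s n =>
      rw [← MvPolynomial.X_pow_eq_monomial, map_pow, MvPolynomial.aeval_X, MonoidAlgebra.single_pow, one_pow]
      congr 1
      apply Multiplicative.toAdd.injective
      funext t
      simp [emb, Finsupp.single_apply]
  have hinj : Function.Injective i := by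
    have hL : i.toLinearMap = (MvPolynomial.basisMonomials σ k).constr k
        fun v => MonoidAlgebra.single (emb v) (1 : k) := by
      refine (MvPolynomial.basisMonomials σ k).ext fun v => ?_
      rw [Module.Basis.constr_basis]
      simpa using hmon v
    have hli : LinearIndependent k fun v : σ →₀ ℕ => MonoidAlgebra.single (emb v) (1 : k) := by
      convert ((MonoidAlgebra.basis (Multiplicative (σ → ℤ)) k).linearIndependent).comp emb emb_injective using 1
      funext v
      simp
    have : Function.Injective i.toLinearMap := by
      rw [hL]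
      exact (MvPolynomial.basisMonomials σ k).injective_constr_of_linearIndependent (R₂ := k) hli
    exact this
  let w : σ →₀ ℕ := Finsupp.equivFunOnFinite.symm fun _ => 1
  let r : MvPolynomial σ k := MvPolynomial.monomial w 1
  have hr : i r = MonoidAlgebra.single (emb w) 1 := hmon w
  have hw : ∀ n : ℕ, emb w ^ n = Multiplicative.ofAdd fun _ => (n : ℤ) := fun n => by
    apply Multiplicative.toAdd.injective
    funext s
    simp [emb, w]
  refine ⟨σ, inferInstance, _, inferInstance, inferInstance, inferInstance, AlgHom.id k _, i,
    std_of_bijective Function.bijective_id, std_of_away r ?_⟩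
  letI := i.toRingHom.toAlgebra
  refine IsLocalization.Away.mk _ ?_ ?_ ?_
  · show IsUnit (i r)
    rw [hr]
    exact ⟨⟨MonoidAlgebra.single (emb w) 1, MonoidAlgebra.single (emb w)⁻¹ 1,
      by rw [MonoidAlgebra.single_mul_single, mul_inv_cancel, _root_.mul_one, MonoidAlgebra.one_def],
      by rw [MonoidAlgebra.single_mul_single, inv_mul_cancel, _root_.mul_one, MonoidAlgebra.one_def]⟩, rfl⟩
  · intro z
    show ∃ (n : ℕ) (a : MvPolynomial σ k), z * i r ^ n = i a
    induction z using MonoidAlgebra.induction_linear with
    | zero => exact ⟨0, 0, by simp⟩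
    | add x y hx hy =>
      obtain ⟨n, a, ha⟩ := hx
      obtain ⟨m, a', ha'⟩ := hy
      exact ⟨n + m, a * r ^ m + a' * r ^ n, by rw [map_add, map_mul, map_mul, map_pow, map_pow, ← ha, ← ha']; ring⟩
    | single d c =>
      let n : ℕ := ∑ s, (d.toAdd s).natAbs
      have hn : ∀ s, 0 ≤ d.toAdd s + (n : ℤ) := fun s => by
        have h1 : (d.toAdd s).natAbs ≤ n := Finset.single_le_sum (f := fun s => (d.toAdd s).natAbs) (fun _ _ => Nat.zero_le _) (Finset.mem_univ s)
        omega
      refine ⟨n, MvPolynomial.monomial (Finsupp.equivFunOnFinite.symm fun s => (d.toAdd s + n).toNat) c, ?_⟩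
      have hc : ∀ v : σ →₀ ℕ, i (MvPolynomial.monomial v c) = MonoidAlgebra.single (emb v) c := fun v => by
        rw [show MvPolynomial.monomial v c = c • MvPolynomial.monomial v (1 : k) by simp [MvPolynomial.smul_monomial],
          map_smul, hmon, MonoidAlgebra.smul_single, smul_eq_mul, _root_.mul_one]
      rw [hc, hr, MonoidAlgebra.single_pow, one_pow, MonoidAlgebra.single_mul_single, _root_.mul_one]
      congr 1
      rw [hw]
      apply Multiplicative.toAdd.injective
      funext s
      simp [emb, hn s]
  · intro a b h
    exact ⟨0, by rw [hinj h]⟩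

/-- The group algebra of a torsion-free abelian group of finite type has a chart. -/
theorem chart_monoidAlgebra (M : Type u) [CommGroup M] [Group.FG M] [IsMulTorsionFree M] :
    Chart k (MonoidAlgebra k M) := by
  haveI : Module.Finite ℤ (Additive M) := Module.Finite.iff_addGroup_fg.2 inferInstance
  let b := Module.Free.chooseBasis ℤ (Additive M)
  let e : Additive M ≃+ (Module.Free.ChooseBasisIndex ℤ (Additive M) → ℤ) := b.equivFun.toAddEquiv
  let em : M ≃* Multiplicative (Module.Free.ChooseBasisIndex ℤ (Additive M) → ℤ) := AddEquiv.toMultiplicativeRight e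
  exact chart_of_equiv (MonoidAlgebra.domCongr k k em) (chart_pi _)

end Groth.Agent.AlgGrpQ.Ratl
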