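import Groth.Agent.AlgGrpQ.Ratl.Uni
import Groth.Agent.AlgGrpQ.Ratl.Torus
import Groth.Agent.AGFRoot.SolvSection
import Groth.Agent.AlgGrpQ.DiagQuot

/-!
# Trigonalizable connected groups are rational
-/

set_option autoImplicit false
set_option linter.style.haveILetI false

universe u

open TensorProduct WithConv
open scoped Groth.Agent.DynLib41

namespace Groth.Agent.AlgGrpQ.Ratl

open Groth.Agent.AGFRoot (Solv.chr Solv.chr_single Solv.pr Solv.pr_apply Solv.mem_ker_pr Solv.theta Solv.theta_apply
  Solv.pr_theta Solv.apply_chr Solv.chr_injective Solv.exists_splitting)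
open Groth.Agent.AGFRoot

variable {k : Type u} [Field k] [IsAlgClosed k] {A : Type u} [CommRing A] [HopfAlgebra k A] [Algebra.FiniteType k A]
  [IsDomain A]

local notation "Pt" => WithConv (A →ₐ[k] k)

theorem chart_of_isTrigonalizable (hT : HopfRep.IsTrigonalizable k A) : Chart k A := by
  classical
  obtain ⟨Θ, hΘ⟩ := Solv.exists_splitting hT
  let M := GroupLike k A
  let J : Ideal A := Ideal.map (Solv.chr (k := k) (A := A) : MonoidAlgebra k M →+* A)
    (RingHom.ker (Bialgebra.counitAlgHom k (MonoidAlgebra k M)))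
  haveI hJH : J.IsHopfIdeal k := MultTypeLib.isHopfIdeal_map_ker (Solv.chr (k := k) (A := A))
  let mk : A →ₐ[k] A ⧸ J := Ideal.Quotient.mkₐ k J
  have hchr : ∀ z : MonoidAlgebra k M, mk (Solv.chr (k := k) (A := A) z) = algebraMap k (A ⧸ J) (Coalgebra.counit (R := k) z) := fun z => by
    refine (Ideal.Quotient.eq (I := J) (x := Solv.chr z) (y := algebraMap k A (Coalgebra.counit z))).2 ?_
    have hmem : Solv.chr (k := k) (A := A) (z - algebraMap k _ (Coalgebra.counit z)) ∈ J :=
      Ideal.mem_map_of_mem _ (show z - algebraMap k _ (Coalgebra.counit z) ∈ RingHom.ker _ by simp [RingHom.mem_ker])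
    rwa [map_sub, AlgHomClass.commutes] at hmem
  have hUJ : HopfRep.IsUnipotent k (A ⧸ J) := by
    obtain ⟨B, _, _, ψ, J', _, -, hB, hJ', hU'⟩ := exists_kernel_of_isTrigonalizable hT
    have hle : J' ≤ J := by
      rw [hJ', Ideal.map_le_iff_le_comap]
      intro x hx
      have key : ∀ y : B, mk (ψ y) = algebraMap k (A ⧸ J) (Coalgebra.counit (R := k) y) := by
        intro y
        have hy : y ∈ Submodule.span k {b : B | IsGroupLikeElem k b} := hB.ge trivial
        induction hy using Submodule.span_induction with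
        | mem y hy =>
          rw [hy.counit_eq_one, map_one]
          have hc : IsGroupLikeElem k (ψ y) := hy.map ψ
          have h := hchr (MonoidAlgebra.single (⟨ψ y, hc⟩ : M) 1)
          rw [Solv.chr_single, one_smul] at h
          simpa using h
        | zero => simp
        | add p q _ _ hp hq => simp [map_add, hp, hq]
        | smul r p _ hp =>
          rw [map_smul, map_smul, hp, map_smul, smul_eq_mul, map_mul, ← Algebra.smul_def]
      show ψ x ∈ J
      refine Ideal.Quotient.eq_zero_iff_mem.1 (show mk (ψ x) = 0 from (key x).trans ?_)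
      rw [show Coalgebra.counit (R := k) x = 0 from hx, map_zero]
    let f : A ⧸ J' →ₐc[k] A ⧸ J := BialgHom.ofAlgHom (Ideal.Quotient.factorₐ k hle)
      (Ideal.Quotient.algHom_ext k (AlgHom.ext fun a => by rfl))
      (Ideal.Quotient.algHom_ext k (AlgHom.ext fun a => by
        show Algebra.TensorProduct.map _ _ (Coalgebra.comul (R := k) (Bialgebra.Quotient.mkBialgHom (R := k) J' a)) =
          Coalgebra.comul (R := k) (Bialgebra.Quotient.mkBialgHom (R := k) J a)
        rw [← CoalgHomClass.map_comp_comul_apply, ← CoalgHomClass.map_comp_comul_apply]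
        induction Coalgebra.comul (R := k) a using TensorProduct.induction_on with
        | zero => simp
        | tmul p q => rfl
        | add p q hp hq => simp only [map_add, hp, hq]))
    exact isUnipotent_of_surjective f (Ideal.Quotient.factor_surjective hle) hU'
  let χ : A →ₐ[k] A := ((Solv.chr (k := k) (A := A) : MonoidAlgebra k M →ₐ[k] A)).comp (Θ : A →ₐ[k] MonoidAlgebra k M)
  let sC : WithConv (A →ₐ[k] A) := (toConv χ)⁻¹ * toConv (AlgHom.id k A)
  let θ : Pt → Pt := fun g => Solv.theta Θ (Solv.pr g)
  let u : Pt → Pt := fun g => (θ g)⁻¹ * g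
  have hχ : ∀ g : Pt, DynLib41.post g.ofConv (toConv χ) = θ g := fun g =>
    WithConv.ofConv_injective (AlgHom.ext fun a => by
      show g.ofConv (Solv.chr (Θ a)) = _
      rw [Solv.apply_chr, Solv.theta_apply])
  have hs : ∀ (g : Pt) a, g.ofConv (sC.ofConv a) = (u g).ofConv a := fun g a => by
    have : DynLib41.post g.ofConv sC = u g := by
      rw [map_mul, map_inv, hχ]
      rfl
    exact congrArg (fun f : Pt => f.ofConv a) this
  have hu : ∀ g, Solv.pr (u g) = 1 := fun g => by
    rw [map_mul, map_inv, Solv.pr_theta hΘ, inv_mul_cancel]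
  have hsJ : ∀ a ∈ J, sC.ofConv a = 0 := by
    have : J ≤ RingHom.ker sC.ofConv := by
      rw [Ideal.map_le_iff_le_comap]
      intro z hz
      refine RingHom.mem_ker.2 (eq_zero_of_points (k := k) fun g => ?_)
      show g.ofConv (sC.ofConv (Solv.chr z)) = 0
      rw [hs, Solv.apply_chr, hu, Solv.liftC_one]
      exact hz
    exact this
  let s : A ⧸ J →ₐ[k] A := Ideal.Quotient.liftₐ J sC.ofConv hsJ
  have hms : ∀ a, mk (sC.ofConv a) = mk a := by
    have h1 : DynLib41.post mk (toConv χ) = 1 := WithConv.ofConv_injective (AlgHom.ext fun a => by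
      show mk (Solv.chr (Θ a)) = _
      rw [hchr, AlgHom.convOne_apply, CoalgHomClass.counit_comp_apply Θ a])
    have h2 : DynLib41.post mk sC = toConv mk := by
      rw [map_mul, map_inv, h1, inv_one, _root_.one_mul]
      rfl
    exact fun a => congrArg (fun f : WithConv (A →ₐ[k] A ⧸ J) => f.ofConv a) h2
  have hmks : ∀ x, mk (s x) = x := fun x => by
    obtain ⟨a, rfl⟩ := Ideal.Quotient.mk_surjective x
    exact hms a
  have hsinj : Function.Injective s := fun x y h => by rw [← hmks x, ← hmks y, h]
  haveI : IsDomain (A ⧸ J) := Function.Injective.isDomain s.toRingHom hsinj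
  obtain ⟨n, -, hn⟩ := VarDim.exists_dim_eq_trdeg (k := k) (A := A ⧸ J)
  have hU : Chart k (A ⧸ J) := chart_of_isUnipotent n (A ⧸ J) hn hUJ
  let Θa : A →ₐ[k] MonoidAlgebra k M := Θ
  let φ : A →ₐ[k] MonoidAlgebra k M ⊗[k] (A ⧸ J) :=
    (Algebra.TensorProduct.map Θa mk).comp (Bialgebra.comulAlgHom k A)
  let ψ : MonoidAlgebra k M ⊗[k] (A ⧸ J) →ₐ[k] A :=
    Algebra.TensorProduct.lift (Solv.chr (k := k) (A := A) : MonoidAlgebra k M →ₐ[k] A) s fun _ _ => Commute.all _ _
  have hψφ : ∀ a, ψ (φ a) = a := fun a => sub_eq_zero.1 (eq_zero_of_points (k := k) fun g => by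
    rw [map_sub, sub_eq_zero]
    have : g.ofConv (ψ (φ a)) = (θ g * u g).ofConv a := by
      rw [AlgHom.convMul_apply]
      show g.ofConv (ψ (Algebra.TensorProduct.map Θa mk (Coalgebra.comul (R := k) a))) = _
      induction Coalgebra.comul (R := k) a using TensorProduct.induction_on with
      | zero => simp
      | add p q hp hq => simp only [map_add, hp, hq]
      | tmul p q =>
        simp only [ψ, Algebra.TensorProduct.map_tmul, Algebra.TensorProduct.lift_tmul, map_mul]
        rw [show g.ofConv ((Solv.chr (k := k) (A := A) : MonoidAlgebra k M →ₐ[k] A) (Θa p)) = (θ g).ofConv p from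
            congrArg (fun f : Pt => f.ofConv p) (hχ g), show s (mk q) = sC.ofConv q from rfl, hs]
    rw [this, show θ g * u g = g from mul_inv_cancel_left _ _])
  have h1z : ∀ z, φ (Solv.chr z) = z ⊗ₜ[k] (1 : A ⧸ J) := by
    intro z
    induction z using MonoidAlgebra.induction_linear with
    | zero => simp
    | add p q hp hq => simp [map_add, hp, hq, add_tmul]
    | single m r =>
      rw [Solv.chr_single, map_smul]
      show r • Algebra.TensorProduct.map Θa mk (Coalgebra.comul (R := k) m.val) = _
      rw [m.2.comul_eq_tmul_self, Algebra.TensorProduct.map_tmul]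
      have e1 : mk m.val = 1 := by
        have h := hchr (MonoidAlgebra.single m 1)
        rw [Solv.chr_single, one_smul] at h
        simpa using h
      have e2 : Θa m.val = MonoidAlgebra.single m 1 := by
        have h := hΘ (MonoidAlgebra.single m 1)
        rwa [Solv.chr_single, one_smul] at h
      rw [e1, e2, TensorProduct.smul_tmul', MonoidAlgebra.smul_single, smul_eq_mul, _root_.mul_one]
  have h2s : ∀ x, φ (s x) = (1 : MonoidAlgebra k M) ⊗ₜ[k] x := by
    intro x
    obtain ⟨a, rfl⟩ := Ideal.Quotient.mk_surjective x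
    let ι := Algebra.TensorProduct.map (Solv.chr (k := k) (A := A) : MonoidAlgebra k M →ₐ[k] A) (AlgHom.id k (A ⧸ J))
    have hι : Function.Injective ι :=
      TensorProduct.map_injective_of_flat_flat _ _ Solv.chr_injective Function.injective_id
    apply hι
    have hl : ι (φ (s (Ideal.Quotient.mk J a))) = (toConv ((Algebra.TensorProduct.includeLeft : A →ₐ[k] A ⊗[k] (A ⧸ J)).comp χ) *
        toConv (Algebra.TensorProduct.includeRight.comp mk)).ofConv (sC.ofConv a) := by
      rw [AlgHom.convMul_apply]
      show ι (Algebra.TensorProduct.map Θa mk (Coalgebra.comul (R := k) (sC.ofConv a))) = _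
      induction Coalgebra.comul (R := k) (sC.ofConv a) using TensorProduct.induction_on with
      | zero => simp
      | add p q hp hq => simp only [map_add, hp, hq]
      | tmul p q => simp [ι, χ, Θa]
    rw [hl]
    refine sub_eq_zero.1 (Obs28.eq_zero_of_evl (fun g : Pt => g.ofConv) (fun b hb => eq_zero_of_points (k := k) (A := A) hb) _ fun g => ?_)
    apply hsinj
    refine sub_eq_zero.1 (eq_zero_of_points (k := k) fun h => ?_)
    rw [map_zero, sub_zero]
    let L : A ⊗[k] (A ⧸ J) →ₐ[k] k := Algebra.TensorProduct.lift g.ofConv (h.ofConv.comp s) fun _ _ => Commute.all _ _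
    have hev : ∀ w, h.ofConv (s (Obs28.evl g.ofConv w)) = L w := fun w => by
      induction w using TensorProduct.induction_on with
      | zero => simp
      | tmul p q => simp [L]
      | add p q hp hq => simp only [map_add, hp, hq]
    rw [hev, map_sub, sub_eq_zero]
    have e1 : L.comp ((Algebra.TensorProduct.includeLeft : A →ₐ[k] A ⊗[k] (A ⧸ J)).comp χ) = (θ g).ofConv := by
      rw [← hχ]
      exact AlgHom.ext fun p => by simp [L]
    have e2 : L.comp (Algebra.TensorProduct.includeRight.comp mk) = (u h).ofConv := AlgHom.ext fun p => by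
      rw [← hs]
      simp [L]
      rfl
    have e3 : ∀ p, L ((toConv ((Algebra.TensorProduct.includeLeft : A →ₐ[k] A ⊗[k] (A ⧸ J)).comp χ) *
        toConv (Algebra.TensorProduct.includeRight.comp mk)).ofConv p) = (θ g * u h).ofConv p := fun p => by
      have := map_mul (DynLib41.post L) (toConv ((Algebra.TensorProduct.includeLeft : A →ₐ[k] A ⊗[k] (A ⧸ J)).comp χ))
        (toConv (Algebra.TensorProduct.includeRight.comp mk))
      refine (congrArg (fun f : Pt => f.ofConv p) this).trans ?_
      show (toConv (L.comp ((Algebra.TensorProduct.includeLeft : A →ₐ[k] A ⊗[k] (A ⧸ J)).comp χ)) *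
        toConv (L.comp (Algebra.TensorProduct.includeRight.comp mk)) : Pt).ofConv p = _
      rw [e1, e2]
    rw [e3, hs (θ g * u h)]
    have e4 : u (θ g * u h) = u h := by
      show (Solv.theta Θ (Solv.pr (θ g * u h)))⁻¹ * (θ g * u h) = u h
      rw [map_mul Solv.pr, hu, mul_one (Solv.pr (θ g)), Solv.pr_theta hΘ]
      exact inv_mul_cancel_left _ _
    rw [e4, ← hs]
    simp [ι, L]
    rfl
  have hφψ : φ.comp ψ = AlgHom.id k _ :=
    Algebra.TensorProduct.ext (AlgHom.ext fun z => by simp [ψ, h1z]) (AlgHom.ext fun x => by simp [ψ, h2s])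
  refine chart_of_equiv (AlgEquiv.ofAlgHom φ ψ hφψ (AlgHom.ext hψφ)) (Chart.tensor ?_ hU)
  haveI : Monoid.FG M := by
    haveI : Algebra.FiniteType k (MonoidAlgebra k M) := Algebra.FiniteType.of_surjective Θa (fun z => ⟨_, hΘ z⟩)
    exact MonoidAlgebra.finiteType_iff_fg.1 ‹Algebra.FiniteType k (MonoidAlgebra k M)›
  haveI : Group.FG M := Group.fg_iff_monoid_fg.2 inferInstance
  exact chart_monoidAlgebra M

end Groth.Agent.AlgGrpQ.Ratl
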