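import Groth.Agent.AlgGrpQ.Ratl.GaSub
import Groth.Agent.AlgGrpQ.Ratl.Slice
import Groth.Agent.AlgGrpQ.Ratl.Chart
import Groth.Agent.GrpSchLib.TakeuchiInv
import Groth.Agent.S5422
import Groth.Agent.NonAbLib.DenseFG.Quotient
import Mathlib.Algebra.Polynomial.HasseDeriv
import Mathlib.Algebra.Polynomial.Taylor
import Mathlib.RingTheory.PolynomialAlgebra

/-!
# Unipotent connected groups are rational
-/

set_option autoImplicit false
set_option linter.style.haveILetI false
set_option maxHeartbeats 1000000

universe u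

open TensorProduct WithConv Polynomial
open scoped Groth.Agent.DynLib41

namespace Groth.Agent.AlgGrpQ.Ratl

variable {k : Type u} [Field k] [IsAlgClosed k] {A : Type u} [CommRing A] [HopfAlgebra k A] [Algebra.FiniteType k A]
  [IsDomain A]

local notation "Pt" => WithConv (A →ₐ[k] k)

/-- Functions on the product with a line are determined by points. -/
theorem poly_ext {P P' : A[X]} (h : ∀ g : Pt, P.map g.ofConv.toRingHom = P'.map g.ofConv.toRingHom) : P = P' := by
  refine Polynomial.ext fun i => sub_eq_zero.1 (eq_zero_of_points (k := k) fun g => ?_)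
  have := congrArg (fun q : k[X] => q.coeff i) (h g)
  simp only [coeff_map] at this
  rw [map_sub, sub_eq_zero]
  exact this

/-- A central line gives a free action with a slice and a Hopf algebra of invariants. -/
theorem exists_step (hU : HopfRep.IsUnipotent k A) (hne : ∃ g : Pt, g ≠ 1) :
    ∃ (R : Subalgebra k A) (a : A) (b : R), SGA3.IsHopfSubalgebra k A R ∧ R.FG ∧ b ≠ 0 ∧
      (∀ x : A, ∃ (N : ℕ) (p : R[X]), (b : A) ^ N * x = aeval a p) ∧ ∀ p : R[X], aeval a p = 0 → p = 0 := by
  classical
  obtain ⟨Q, _, hQp, hQd, hQn⟩ := exists_central hU hne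
  let C := A ⧸ Q
  have hUC : HopfRep.IsUnipotent k C := isUnipotent_quotient hU Q
  obtain ⟨z, hz, hzt⟩ := exists_generator (k := k) (A := C) hQd hUC
  have hsurj : Function.Surjective (aeval (R := k) z) := fun w => by
    have : w ∈ Algebra.adjoin k {z} := hzt ▸ Algebra.mem_top
    rwa [Algebra.adjoin_singleton_eq_range_aeval] at this
  have hz0 : z ≠ 0 := by
    rintro rfl
    have hfin : (Set.univ : Set (WithConv (C →ₐ[k] k))).Finite := (Set.finite_singleton 1).subset fun g _ => by
      refine Set.mem_singleton_iff.2 (WithConv.ofConv_injective (AlgHom.ext fun w => ?_))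
      obtain ⟨p, rfl⟩ := hsurj w
      rw [← aeval_algHom_apply, ← aeval_algHom_apply, map_zero, map_zero]
    exact infinite_points (k := k) hQd hfin
  have hinjz : Function.Injective (aeval (R := k) z) := (injective_iff_map_eq_zero _).2 fun p hp =>
    eq_zero_of_infinite_isRoot p ((hz.infinite_range hz0).mono (by
      rintro _ ⟨g, rfl⟩
      show p.eval (g.ofConv z) = 0
      rw [← apply_aeval, hp, map_zero]))
  let e : k[X] ≃ₐ[k] C := AlgEquiv.ofBijective (aeval z) ⟨hinjz, hsurj⟩
  let Φ : A ⊗[k] C ≃ₐ[k] A[X] :=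
    (Algebra.TensorProduct.congr AlgEquiv.refl e.symm).trans ((polyEquivTensor k A).symm.restrictScalars k)
  let c : A →ₐ[k] A[X] := (Φ : A ⊗[k] C →ₐ[k] A[X]).comp
    ((Algebra.TensorProduct.map (AlgHom.id k A) (Ideal.Quotient.mkₐ k Q)).comp (Bialgebra.comulAlgHom k A))
  let nC : k → (C →ₐ[k] k) := fun t => (aeval (R := k) t).comp (e.symm : C →ₐ[k] k[X])
  let n : k → Pt := fun t => toConv ((nC t).comp (Ideal.Quotient.mkₐ k Q))
  have hnz : ∀ t, nC t z = t := fun t => by
    show aeval t (e.symm z) = t
    rw [show e.symm z = X from e.symm_apply_eq.2 (aeval_X z).symm, aeval_X]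
  have hadd : ∀ s t, n (s + t) = n s * n t := by
    intro s t
    have hC : toConv (nC (s + t)) = toConv (nC s) * toConv (nC t) := by
      refine WithConv.ofConv_injective (AlgHom.ext fun w => ?_)
      obtain ⟨p, rfl⟩ := hsurj w
      rw [← aeval_algHom_apply, ← aeval_algHom_apply]
      congr 2
      rw [hz]
      exact (hnz (s + t)).trans (congrArg₂ (· + ·) (hnz s) (hnz t)).symm
    refine WithConv.ofConv_injective ?_
    show (nC (s + t)).comp (Ideal.Quotient.mkₐ k Q) = _
    rw [show nC (s + t) = (toConv (nC s) * toConv (nC t)).ofConv from congrArg WithConv.ofConv hC]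
    exact AlgHom.convMul_comp_bialgHom_distrib (toConv (nC s)) (toConv (nC t)) (Bialgebra.Quotient.mkBialgHom Q)
  have hn0 : n 0 = 1 := by
    have h := hadd 0 0
    rw [add_zero] at h
    exact mul_left_cancel (h.symm.trans (_root_.mul_one _).symm)
  have hmain : ∀ (g : Pt) (t : k) (x : A), ((c x).map g.ofConv.toRingHom).eval t = (g * n t).ofConv x := by
    intro g t x
    rw [AlgHom.convMul_apply]
    show ((Φ (Algebra.TensorProduct.map (AlgHom.id k A) (Ideal.Quotient.mkₐ k Q) (Coalgebra.comul (R := k) x))).map _).eval t = _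
    induction Coalgebra.comul (R := k) x using TensorProduct.induction_on with
    | zero => simp
    | add p q hp hq => simp only [map_add, Polynomial.map_add, eval_add, hp, hq]
    | tmul p q =>
      have hq : n t = toConv ((nC t).comp (Ideal.Quotient.mkₐ k Q)) := rfl
      simp [Φ, nC, n, eval_map]
      refine Or.inl ?_
      rw [eval₂_map, ← eval_map,
        show (g.ofConv : A →+* k).comp (algebraMap k A) = RingHom.id k from RingHom.ext fun r => g.ofConv.commutes r,
        Polynomial.map_id]
      rfl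
  have h0 : ∀ a, (c a).coeff 0 = a := fun a => by
    refine sub_eq_zero.1 (eq_zero_of_points (k := k) fun g => ?_)
    have := hmain g 0 a
    rw [hn0, _root_.mul_one, ← coeff_zero_eq_eval_zero, coeff_map] at this
    rw [map_sub, sub_eq_zero]
    exact this
  have h2 : ∀ a i j, (c ((c a).coeff j)).coeff i = (i + j).choose j • (c a).coeff (i + j) := by
    intro a i j
    refine sub_eq_zero.1 (eq_zero_of_points (k := k) fun g => ?_)
    let P := (c a).map g.ofConv.toRingHom
    have hP : (c ((c a).coeff j)).map g.ofConv.toRingHom = hasseDeriv j P := by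
      refine Polynomial.funext fun s => ?_
      rw [hmain, ← taylor_coeff]
      have : (c a).map (g * n s).ofConv.toRingHom = taylor s P := by
        refine Polynomial.funext fun t => ?_
        rw [hmain, taylor_eval, hmain, mul_assoc, ← hadd, add_comm t s]
      rw [← this, coeff_map]
      rfl
    have h := congrArg (fun q : k[X] => q.coeff i) hP
    simp only [coeff_map, hasseDeriv_coeff, P] at h
    rw [map_sub, sub_eq_zero, nsmul_eq_mul, map_mul, map_natCast]
    exact h
  have hX : (Polynomial.X : A[X]) ∈ Algebra.adjoin A (Set.range c) := by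
    obtain ⟨x, hx⟩ := Ideal.Quotient.mk_surjective z
    let ψ : A ⊗[k] A →ₐ[k] A[X] := Algebra.TensorProduct.lift
      ((IsScalarTower.toAlgHom k A A[X]).comp (HopfAlgebra.antipodeAlgHom k A)) c fun _ _ => Commute.all _ _
    have hψ : ψ (Coalgebra.comul (R := k) x) = Polynomial.X := by
      refine poly_ext (k := k) fun g => Polynomial.funext fun t => ?_
      let L : A[X] →ₐ[k] k := (aeval (R := k) t).comp (mapAlgHom g.ofConv)
      have hL : ∀ P, L P = (P.map g.ofConv.toRingHom).eval t := fun P => by
        simp [L, aeval_def, eval_map, eval₂_map]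
      rw [← hL, ← AlgHom.comp_apply L ψ, map_X, eval_X]
      have e1 : L.comp ψ = Algebra.TensorProduct.lift g⁻¹.ofConv (g * n t).ofConv fun _ _ => Commute.all _ _ := by
        refine Algebra.TensorProduct.ext (AlgHom.ext fun y => ?_) (AlgHom.ext fun y => ?_)
        · simp [ψ, L, DynLib41.inv_ofConv]
        · show L (ψ (1 ⊗ₜ[k] y)) = _
          simp [ψ]
          exact (hL _).trans (hmain g t y)
      rw [e1]
      refine (AlgHom.convMul_apply g⁻¹ (g * n t) x).symm.trans ?_
      rw [inv_mul_cancel_left]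
      show nC t (Ideal.Quotient.mkₐ k Q x) = t
      rw [Ideal.Quotient.mkₐ_eq_mk, hx, hnz]
    rw [← hψ]
    induction Coalgebra.comul (R := k) x using TensorProduct.induction_on with
    | zero => simp
    | add p q hp hq => rw [map_add]; exact add_mem hp hq
    | tmul p q =>
      show ψ (p ⊗ₜ[k] q) ∈ _
      rw [Algebra.TensorProduct.lift_tmul]
      exact mul_mem (Subalgebra.algebraMap_mem _ _) (Algebra.subset_adjoin ⟨q, rfl⟩)
  obtain ⟨a, b, hb, hbi, -, hgen, hinj⟩ := exists_slice c h0 h2 hX
  have hinv : GrpSchLib.TakeuchiInv.inv (k := k) Q = invA c := by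
    ext x
    rw [GrpSchLib.TakeuchiInv.mem_inv, mem_invA]
    have hΦ1 : Φ (x ⊗ₜ[k] (1 : C)) = Polynomial.C x := by simp [Φ, Polynomial.smul_eq_C_mul]
    rw [← hΦ1]
    exact ⟨fun h => congrArg Φ h, fun h => Φ.injective h⟩
  have hR : SGA3.IsHopfSubalgebra k A (invA c) := hinv ▸ GrpSchLib.TakeuchiInv.isHopfSubalgebra_inv hQn
  refine ⟨invA c, a, ⟨b, hbi⟩, hR, ?_, fun h => hb (congrArg Subtype.val h), fun x => ?_, fun p hp => ?_⟩
  · -- finite generation
    haveI : IsNoetherianRing A := Algebra.FiniteType.isNoetherianRing k A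
    let I := SGA3.augIdealSpan k A (invA c)
    obtain ⟨s, hs, hsI⟩ := (Submodule.fg_span_iff_fg_span_finset_subset _).1 (IsNoetherian.noetherian I)
    have hfam : ∀ t : Finset A, (∀ y ∈ t, y ∈ invA c) →
        ∃ D : Subalgebra k A, D ≤ invA c ∧ (t : Set A) ⊆ D ∧ D.FG ∧ SGA3.IsHopfSubalgebra k A D := by
      intro t
      induction t using Finset.induction_on with
      | empty =>
        intro _
        obtain ⟨D, hD, -, hf, hH⟩ := NonAbLib.DenseFG.exists_fg_le hR (invA c).one_mem
        exact ⟨D, hD, by simp, hf, hH⟩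
      | @insert y t _ ih =>
        intro ht
        obtain ⟨D, hD, hDt, hf, hH⟩ := ih fun w hw => ht w (Finset.mem_insert_of_mem hw)
        obtain ⟨D', hD', hy, hf', hH'⟩ := NonAbLib.DenseFG.exists_fg_le hR (ht y (Finset.mem_insert_self y t))
        refine ⟨D ⊔ D', sup_le hD hD', ?_, hf.sup hf', GrpSchLib.ProPoints.isHopfSubalgebra_sup hH hH'⟩
        rw [Finset.coe_insert, Set.insert_subset_iff]
        exact ⟨(le_sup_right : D' ≤ D ⊔ D') hy, hDt.trans (SetLike.coe_subset_coe.2 le_sup_left)⟩
    obtain ⟨D, hD, hDs, hDf, hDH⟩ := hfam s fun y hy => (hs hy).1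
    have hID : I ≤ SGA3.augIdealSpan k A D := by
      rw [show I = Submodule.span A (s : Set A) from hsI]
      refine Submodule.span_le.2 fun y hy => Submodule.subset_span ⟨hDs hy, (hs hy).2⟩
    have hle : invA c ≤ D :=
      (GrpSchLib.TakeuchiInv.le_inv_of_augIdealSpan_le (invA c) hR hID).trans
        (GrpSchLib.TakeuchiInv.inv_augIdealSpan D hDH)
    exact le_antisymm hle hD ▸ hDf
  · obtain ⟨N, p, hp⟩ := hgen x
    exact ⟨N, p, by rw [hp, eval_map]; rfl⟩
  · exact hinj p (by rw [eval_map]; exact hp)

/-- The coordinate ring of a connected unipotent group has a chart. -/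
theorem chart_of_isUnipotent (n : ℕ) : ∀ (A : Type u) [CommRing A] [HopfAlgebra k A] [Algebra.FiniteType k A]
    [IsDomain A], Algebra.trdeg k A = n → HopfRep.IsUnipotent k A → Chart k A := by
  induction n using Nat.strong_induction_on with
  | _ n ih => ?_
  intro A _ _ _ _ hn hU
  by_cases hne : ∃ g : WithConv (A →ₐ[k] k), g ≠ 1
  swap
  · push Not at hne
    refine chart_of_equiv (AlgEquiv.ofBijective (Bialgebra.counitAlgHom k A) ⟨?_, fun r => ⟨algebraMap k A r, by simp⟩⟩)
      chart_self
    refine (injective_iff_map_eq_zero _).2 fun x hx => eq_zero_of_points (k := k) fun g => ?_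
    rw [hne g, AlgHom.convOne_apply]
    simpa using hx
  obtain ⟨R, a, b, hR, hfg, hb, hgen, hinj⟩ := exists_step hU hne
  letI := GrpSchLib.SubHopf.hopf R hR
  haveI : Algebra.FiniteType k R := (Subalgebra.fg_iff_finiteType R).mp hfg
  let j : R →ₐc[k] A := BialgHom.ofAlgHom R.val rfl (AlgHom.ext fun c => GrpSchLib.SubHopf.map_comulRes R hR c)
  have hUR : HopfRep.IsUnipotent k R := Groth.Agent.S5422.of_injective j Subtype.val_injective hU
  obtain ⟨m, -, hm⟩ := VarDim.exists_dim_eq_trdeg (k := k) (A := R)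
  haveI : Algebra.Transcendental R A := ⟨⟨a, transcendental_iff.2 hinj⟩⟩
  have hlt : m < n := by
    have h1 := trdeg_add_le (R := k) (S := R) (A := A)
    rw [hm, hn] at h1
    have h2 := trdeg_pos R A
    rw [← @Nat.cast_lt Cardinal, ← hn]
    calc (m : Cardinal) < m + 1 := by norm_cast; omega
      _ ≤ Algebra.trdeg k R + Algebra.trdeg R A := by
        rw [hm]; exact add_le_add le_rfl (Cardinal.one_le_iff_pos.2 h2)
      _ ≤ _ := trdeg_add_le
  exact Chart.of_slice R (ih m hlt R hm hUR) b hb a hgen hinj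

end Groth.Agent.AlgGrpQ.Ratl
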